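import Groth.Agent.WeilLib.Geometry
import Groth.Prelude.Def_ChowOps
import Mathlib.RingTheory.FiniteType

/-!
# Classes of cycles
-/

universe u v

open AlgebraicGeometry CategoryTheory

namespace Groth.Agent.WeilLib

open WeilCoh

noncomputable section

instance quasiCompact_projSpace_toSpec (n : ℕ) (R : Type u) [CommRing R] :
    QuasiCompact (CohB1.ProjSpace.toSpec n R) := by
  have : IsScalarTower R (CohB1.polyGrading n R 0) (MvPolynomial (Fin (n + 1)) R) :=
    IsScalarTower.of_algebraMap_eq' (R := R) (S := CohB1.polyGrading n R 0)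
      (A := MvPolynomial (Fin (n + 1)) R) (RingHom.ext fun _ => rfl)
  have : Algebra.FiniteType (CohB1.polyGrading n R 0) (MvPolynomial (Fin (n + 1)) R) :=
    Algebra.FiniteType.of_restrictScalars_finiteType R _ _
  have h1 : QuasiCompact (Proj.toSpecZero (CohB1.polyGrading n R)) := inferInstance
  exact @quasiCompact_comp _ _ _ (Proj.toSpecZero (CohB1.polyGrading n R))
    (Spec.map (CommRingCat.ofHom (algebraMap R (CohB1.polyGrading n R 0)))) h1 inferInstance

instance quasiCompact_projSpaceOver_toBase (n : ℕ) (S : Scheme.{u}) :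
    QuasiCompact (CohB1.ProjSpaceOver.toBase n S) :=
  (inferInstance : QuasiCompact (Limits.pullback.snd (CohB1.ProjSpace.toSpec n (ULift.{u} ℤ))
    (specULiftZIsTerminal.from S)))

variable {k : Type u} [Field k]

instance quasiCompact_hom (X : Var k) : QuasiCompact X.obj.hom := by
  obtain ⟨n, i, hi, hi'⟩ := X.property.2.1
  rw [← hi']
  infer_instance

instance compactSpace_var (X : Var k) : CompactSpace ↥X.obj.left :=
  QuasiCompact.compactSpace_of_compactSpace X.obj.hom

/-- A weight compatible with the zero weight of the base is the dimension of the closure. -/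
theorem delta_eq (X : Var k) {δ : ↥X.obj.left → ℤ}
    (hδ : Cyc.DeltaCompat X.obj.hom δ (fun _ => 0)) (x : ↥X.obj.left) :
    δ x = pdim X.obj.left x := by
  obtain ⟨n, hn, hx⟩ := hδ x
  have h : VarDim.tdeg X.obj.hom x = n := (VarDim.tdeg_eq_rdeg X.obj.hom x).trans hn
  rw [hx, zero_add, pdim_eq_deg, VarDim.deg, h, Cardinal.toNat_natCast]

variable {K : Type v} [Field K]

theorem support_finite (X : Var k) (α : AlgebraicCycle X.obj.left ℤ) : α.support.Finite := by
  have := α.locallyFiniteSupport.finite_inter_support_of_isCompact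
    (isCompact_univ (X := ↥X.obj.left))
  rwa [Set.univ_inter] at this

variable [IsAlgClosed k] [CharZero K] (T : Theory k K)

theorem clCyc_eq_sum (X : Var k) (α : AlgebraicCycle X.obj.left ℤ) :
    T.clCyc X α = ∑ ξ ∈ (support_finite X α).toFinset, ((α ξ : ℤ) : K) • T.cl X ξ := by
  refine finsum_eq_sum_of_support_subset _ fun ξ hξ => ?_
  simp only [Set.Finite.coe_toFinset, Function.mem_support] at hξ ⊢
  exact fun h => hξ (by rw [h, Int.cast_zero, zero_smul])

/-- **Push-forward of cycles and the trace.** -/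
theorem tr_clCyc_map (X Y : Var k) (f : X ⟶ Y) [QuasiCompact (sm f)]
    {δX : ↥X.obj.left → ℤ} (hδX : Cyc.DeltaCompat X.obj.hom δX (fun _ => 0))
    {δY : ↥Y.obj.left → ℤ} (hδY : Cyc.DeltaCompat Y.obj.hom δY (fun _ => 0))
    (α : AlgebraicCycle X.obj.left ℤ) (b : T.H Y) :
    T.tr Y (T.clCyc Y (AlgebraicCycle.map (sm f) δX δY α) * b) =
      T.tr X (T.clCyc X α * T.pull f b) := by
  classical
  set s := (support_finite X α).toFinset with hs
  have hmap : ∀ y, AlgebraicCycle.map (sm f) δX δY α y = ∑ x ∈ s.filter (fun x => sm f x = y),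
      α x * (AlgebraicCycle.mapCoeff (sm f) δX δY x : ℤ) := fun y => by
    show (∑ᶠ x ∈ (sm f) ⁻¹' {y}, α x * (AlgebraicCycle.mapCoeff (sm f) δX δY x : ℤ)) = _
    refine finsum_mem_eq_sum_of_inter_support_eq _ ?_
    ext x
    simp only [Set.mem_inter_iff, Set.mem_preimage, Set.mem_singleton_iff, Function.mem_support,
      Finset.coe_filter, Set.mem_setOf_eq, hs, Set.Finite.mem_toFinset]
    exact ⟨fun ⟨h1, h2⟩ => ⟨⟨fun h => h2 (by rw [h, zero_mul]), h1⟩, h2⟩,
      fun ⟨⟨_, h1⟩, h2⟩ => ⟨h1, h2⟩⟩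
  have hY : T.clCyc Y (AlgebraicCycle.map (sm f) δX δY α) =
      ∑ x ∈ s, ((α x * (AlgebraicCycle.mapCoeff (sm f) δX δY x : ℤ) : ℤ) : K) •
        T.cl Y (sm f x) := by
    rw [TheoryOn.clCyc, finsum_eq_sum_of_support_subset (s := s.image (sm f)) _ fun y hy => ?_]
    · rw [← Finset.sum_fiberwise_of_maps_to (g := (sm f)) (t := s.image (sm f))
        (fun x hx => Finset.mem_image_of_mem _ hx)]
      refine Finset.sum_congr rfl fun y _ => ?_
      rw [hmap, Int.cast_sum, Finset.sum_smul]
      exact Finset.sum_congr rfl fun x hx => by rw [(Finset.mem_filter.1 hx).2]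
    · by_contra hy'
      refine hy ?_
      show ((AlgebraicCycle.map (sm f) δX δY α y : ℤ) : K) • T.cl Y y = 0
      rw [hmap, Finset.sum_eq_zero fun x hx => (hy' (Finset.mem_coe.2 (Finset.mem_image.2
        ⟨x, (Finset.mem_filter.1 hx).1, (Finset.mem_filter.1 hx).2⟩))).elim, Int.cast_zero,
        zero_smul]
  rw [hY, clCyc_eq_sum T X α, Finset.sum_mul, Finset.sum_mul, map_sum, map_sum]
  refine Finset.sum_congr rfl fun x _ => ?_
  rw [smul_mul_assoc, smul_mul_assoc, map_smul, map_smul, smul_eq_mul, smul_eq_mul, Int.cast_mul,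
    mul_assoc]
  congr 1
  have hcoef : ((AlgebraicCycle.mapCoeff (sm f) δX δY x : ℕ) : ℤ) =
      ((sm f).residueDegree x : ℤ) := by
    rw [AlgebraicCycle.mapCoeff]
    split_ifs with h
    · rfl
    · by_contra hne
      refine h ?_
      rw [delta_eq X hδX, delta_eq Y hδY,
        pdim_eq_of_residueDegree_ne_zero f x (fun h0 => hne (by rw [h0]))]
  rw [hcoef, Int.cast_natCast]
  refine homogeneous_induction T
    (C := fun b => ((sm f).residueDegree x : K) * T.tr Y (T.cl Y (sm f x) * b) =
      T.tr X (T.cl X x * T.pull f b)) b (fun i y hy => ?_) (by simp) fun y z hy hz => by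
    rw [map_add, mul_add, mul_add, map_add, map_add, mul_add, hy, hz]
  by_cases hi : i = 2 * (pdim X.obj.left x : ℤ)
  · exact (T.cl_push f x y (mem_congr T hi hy)).symm
  rw [tr_mul_eq_zero T (T.cl_mem X x) (T.pull_mem f i y hy) (by rw [cast_codim]; omega)]
  rcases eq_or_ne ((sm f).residueDegree x) 0 with h | h
  · rw [h, Nat.cast_zero, zero_mul]
  · rw [tr_mul_eq_zero T (T.cl_mem Y _) hy (by
      rw [cast_codim, pdim_eq_of_residueDegree_ne_zero f x h]; omega), mul_zero]

/-- The degree of a zero cycle is the trace of its class. -/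
theorem deg_eq_tr_clCyc (X : Var k) [QuasiCompact X.obj.hom]
    {δ : ↥X.obj.left → ℤ} (hδ : Cyc.DeltaCompat X.obj.hom δ (fun _ => 0))
    {α : AlgebraicCycle X.obj.left ℤ} (hα : α ∈ Cyc.Zk X.obj.left δ 0) :
    (ChowOps.deg X.obj.hom δ α : K) = T.tr X (T.clCyc X α) := by
  set s := (support_finite X α).toFinset with hs
  have hclosed : ∀ x ∈ s, IsClosed ({x} : Set ↥X.obj.left) ∧ δ x = 0 := fun x hx => by
    have h0 : δ x = 0 := by
      by_contra h
      exact (Function.mem_support.1 ((Set.Finite.mem_toFinset _).1 hx)) (hα x h)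
    refine ⟨(pdim_eq_zero_iff X x).1 ?_, h0⟩
    rw [delta_eq X hδ] at h0
    exact_mod_cast h0
  have hdeg : ChowOps.deg X.obj.hom δ α = ∑ x ∈ s, α x := by
    show (∑ᶠ x ∈ X.obj.hom ⁻¹' {IsLocalRing.closedPoint k},
      α x * (AlgebraicCycle.mapCoeff X.obj.hom δ (fun _ => (0 : ℤ)) x : ℤ)) = _
    rw [finsum_mem_eq_sum_of_subset (t := s) _ ?_ ?_]
    · refine Finset.sum_congr rfl fun x hx => ?_
      obtain ⟨hc, h0⟩ := hclosed x hx
      rw [AlgebraicCycle.mapCoeff, if_pos h0, residueDegree_hom_of_isClosed X.obj.hom x hc,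
        Nat.cast_one, mul_one]
    · intro x hx
      rw [Finset.mem_coe, Set.Finite.mem_toFinset]
      exact fun h => hx.2 (by
        show α x * _ = 0
        rw [h, zero_mul])
    · intro x _
      exact (Subsingleton.elim (X.obj.hom x) (IsLocalRing.closedPoint k) :)
  rw [hdeg, clCyc_eq_sum T X α, map_sum, Int.cast_sum]
  refine Finset.sum_congr rfl fun x hx => ?_
  rw [map_smul, smul_eq_mul, tr_cl_of_isClosed T X x (hclosed x hx).1, mul_one]

theorem isHomEquivZero_iff_deg (X : Var k) [QuasiCompact X.obj.hom]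
    {δ : ↥X.obj.left → ℤ} (hδ : Cyc.DeltaCompat X.obj.hom δ (fun _ => 0))
    {α : AlgebraicCycle X.obj.left ℤ} (hα : α ∈ Cyc.Zk X.obj.left δ 0) :
    T.IsHomEquivZero X α ↔ ChowOps.deg X.obj.hom δ α = 0 := by
  have h := deg_eq_tr_clCyc T X hδ hα
  constructor
  · intro h0
    rw [show T.clCyc X α = 0 from h0, map_zero] at h
    exact Int.cast_eq_zero.1 h
  · intro h0
    rw [h0, Int.cast_zero] at h
    have hmem : T.clCyc X α ∈ T.gr X (2 * 𝐝 X) := by
      rw [clCyc_eq_sum]
      refine Submodule.sum_mem _ fun x hx => Submodule.smul_mem _ _ (mem_congr T ?_ (T.cl_mem X x))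
      have h1 : δ x = 0 := by
        by_contra h'
        exact (Function.mem_support.1 ((Set.Finite.mem_toFinset _).1 hx)) (hα x h')
      rw [delta_eq X hδ] at h1
      rw [cast_codim, h1, sub_zero]
    exact top_ext T hmem (Submodule.zero_mem _) (by rw [map_zero, ← h])

end

end Groth.Agent.WeilLib
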