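import Groth.Agent.WeilLib.Lefschetz
import Groth.Agent.VarDim.Fibre
import Groth.Agent.VarDim.Top
import Groth.Agent.GrpSchLib.SmoothReduced
import Mathlib.AlgebraicGeometry.AlgClosed.Basic

/-!
# Varieties over an algebraically closed field: points, classes of points, graphs
-/

universe u v

open AlgebraicGeometry CategoryTheory

namespace Groth.Agent.WeilLib

open WeilCoh

noncomputable section

variable {k : Type u} [Field k]

section Scheme

variable {X Y : Scheme.{u}}

theorem residueDegree_eq_one_of_surjective (f : X ⟶ Y) (x : X)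
    (h : Function.Surjective (f.residueFieldMap x)) : f.residueDegree x = 1 := by
  letI := (f.residueFieldMap x).hom.toAlgebra
  have e : Y.residueField (f x) ≃ₗ[Y.residueField (f x)] X.residueField x :=
    LinearEquiv.ofBijective (Algebra.linearMap _ _) ⟨RingHom.injective _, h⟩
  show Module.finrank (Y.residueField (f x)) (X.residueField x) = 1
  rw [← e.finrank_eq, Module.finrank_self]

theorem bijective_residueFieldMap_id {g : X ⟶ X} (h : g = 𝟙 X) (x : X) :
    Function.Bijective (g.residueFieldMap x) := by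
  subst h
  rw [Scheme.residueFieldMap_id]
  exact Function.bijective_id

/-- At every point a morphism with a retraction is bijective on residue fields. -/
theorem bijective_residueFieldMap_section {j : X ⟶ Y} {p : Y ⟶ X} (h : j ≫ p = 𝟙 X) (x : X) :
    Function.Bijective (j.residueFieldMap x) := by
  refine ⟨RingHom.injective _, fun a => ?_⟩
  obtain ⟨b, hb⟩ := (bijective_residueFieldMap_id h x).2 a
  rw [Scheme.residueFieldMap_comp] at hb
  exact ⟨_, hb⟩

end Scheme

section Var

variable (X : Var k)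

instance smooth_hom : Smooth X.obj.hom := X.property.1

instance irreducibleSpace_var : IrreducibleSpace ↥X.obj.left := X.property.2.2

instance locallyOfFiniteType_hom : LocallyOfFiniteType X.obj.hom := inferInstance

instance isReduced_var : IsReduced X.obj.left := GrpSchLib.isReduced_of_smooth_field X.obj.hom

instance isIntegral_var : IsIntegral X.obj.left :=
  isIntegral_of_irreducibleSpace_of_isReduced X.obj.left

/-- The generic point. -/
abbrev gen : ↥X.obj.left := genericPoint ↥X.obj.left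

theorem natDim_eq {T : Type u} [TopologicalSpace T] {n : ℕ}
    (h : topologicalKrullDim T = ((n : ℕ∞) : WithBot ℕ∞)) : natDim T = n := by
  simp [natDim, h]

theorem pdim_eq_deg (ξ : ↥X.obj.left) : pdim X.obj.left ξ = VarDim.deg X.obj.hom ξ :=
  natDim_eq (VarDim.topologicalKrullDim_closure_singleton X.obj.hom ξ)

theorem dim_eq_deg : dim X.obj.left = VarDim.deg X.obj.hom (gen X) :=
  natDim_eq (VarDim.topologicalKrullDim_eq_deg_genericPoint X.obj.hom)

theorem pdim_gen : pdim X.obj.left (gen X) = dim X.obj.left := by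
  rw [pdim_eq_deg, dim_eq_deg]

theorem pdim_le_dim (ξ : ↥X.obj.left) : pdim X.obj.left ξ ≤ dim X.obj.left := by
  rw [pdim_eq_deg, dim_eq_deg]
  exact VarDim.deg_le_of_specializes X.obj.hom (genericPoint_specializes ξ)

theorem cast_codim (ξ : ↥X.obj.left) :
    (codim X.obj.left ξ : ℤ) = dim X.obj.left - pdim X.obj.left ξ := by
  rw [codim, Nat.cast_sub (pdim_le_dim X ξ)]

theorem codim_gen : codim X.obj.left (gen X) = 0 := by rw [codim, pdim_gen, Nat.sub_self]

theorem pdim_eq_zero_iff (ξ : ↥X.obj.left) :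
    pdim X.obj.left ξ = 0 ↔ IsClosed ({ξ} : Set ↥X.obj.left) := by
  rw [pdim_eq_deg, ← VarDim.closedPoint_iff_deg_eq_zero]

theorem exists_isClosed_point : ∃ x : ↥X.obj.left, IsClosed ({x} : Set ↥X.obj.left) := by
  have : JacobsonSpace ↥X.obj.left := LocallyOfFiniteType.jacobsonSpace X.obj.hom
  obtain ⟨x, -, hx⟩ := nonempty_inter_closedPoints (Z := (Set.univ : Set ↥X.obj.left))
    Set.univ_nonempty isClosed_univ.isLocallyClosed
  exact ⟨x, hx⟩

end Var

variable [IsAlgClosed k]

theorem bijective_resHom {X : Scheme.{u}} (f : X ⟶ Spec (CommRingCat.of k)) [LocallyOfFiniteType f]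
    (x : X) (hx : IsClosed ({x} : Set X)) : Function.Bijective (VarDim.resHom f x) := by
  letI := (VarDim.resHom f x).toAlgebra
  have h0 : Algebra.trdeg k (X.residueField x) = 0 := by
    have h := VarDim.deg_eq_tdeg f x
    rw [(VarDim.closedPoint_iff_deg_eq_zero f x).1 hx] at h
    exact h.symm.trans Nat.cast_zero
  have := trdeg_eq_zero_iff.1 h0
  exact IsAlgClosed.algebraMap_bijective_of_isIntegral (k := k) (K := X.residueField x)

theorem residueDegree_hom_of_isClosed {X : Scheme.{u}} (f : X ⟶ Spec (CommRingCat.of k))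
    [LocallyOfFiniteType f] (x : X) (hx : IsClosed ({x} : Set X)) : f.residueDegree x = 1 := by
  refine residueDegree_eq_one_of_surjective f x fun a => ?_
  obtain ⟨c, rfl⟩ := (bijective_resHom f x hx).2 a
  refine ⟨(Spec (CommRingCat.of k)).Γevaluation (f x) ((Scheme.ΓSpecIso (CommRingCat.of k)).inv c), ?_⟩
  rw [Scheme.Γevaluation_naturality_apply]
  rfl

variable {X Y : Var k}

/-- The point `Spec k` as an object. -/
theorem isVar_point (X : Var k) : IsVar k (Over.mk (𝟙 (Spec (CommRingCat.of k)))) := by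
  obtain ⟨x, hx⟩ := exists_isClosed_point X
  obtain ⟨n, i, hi, hi'⟩ := X.property.2.1
  refine ⟨(show Smooth (𝟙 (Spec (CommRingCat.of k))) from inferInstance), ⟨n, pointOfClosedPoint X.obj.hom x hx ≫ i, ?_, ?_⟩, ?_⟩
  · have hc : IsClosedImmersion (pointOfClosedPoint X.obj.hom x hx) :=
      isClosedImmersion_of_comp_eq_id _ _ (pointOfClosedPoint_comp X.obj.hom x hx)
    infer_instance
  · rw [Category.assoc, hi', pointOfClosedPoint_comp]
    rfl
  · exact (inferInstance : IrreducibleSpace ↥(Spec (CommRingCat.of k)))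

/-- The point, built from any object. -/
def pt (X : Var k) : Var k := ⟨Over.mk (𝟙 (Spec (CommRingCat.of k))), isVar_point X⟩

/-- The structure morphism to the point. -/
def toPt (X : Var k) : X ⟶ pt X := ObjectProperty.homMk (Over.homMk X.obj.hom (Category.comp_id _))

instance subsingleton_pt (X : Var k) : Subsingleton ↥(pt X).obj.left :=
  (inferInstance : Subsingleton ↥(Spec (CommRingCat.of k)))

theorem pdim_pt (X : Var k) (ξ : ↥(pt X).obj.left) : pdim (pt X).obj.left ξ = 0 :=
  (pdim_eq_zero_iff (pt X) ξ).2 (Set.Subsingleton.isClosed Set.subsingleton_singleton)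

theorem dim_pt (X : Var k) : dim (pt X).obj.left = 0 := by rw [← pdim_gen (pt X), pdim_pt]

variable {K : Type v} [Field K] [CharZero K] (T : Theory k K)

theorem tr_cl_of_isClosed (X : Var k) (x : ↥X.obj.left) (hx : IsClosed ({x} : Set ↥X.obj.left)) :
    T.tr X (T.cl X x) = 1 := by
  obtain ⟨hcl, htr⟩ := T.point (pt X) (dim_pt X)
  have hd : (sm (toPt X)).residueDegree x = 1 := residueDegree_hom_of_isClosed X.obj.hom x hx
  have h := T.cl_push (toPt X) x 1
    (mem_congr T (by rw [(pdim_eq_zero_iff X x).2 hx]; simp) (one_mem T (pt X)))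
  rw [map_one, mul_one, mul_one, hcl, htr, mul_one, hd, Nat.cast_one] at h
  exact h

theorem specializes_eq_gen {w : ↥X.obj.left} (hw : IsCompPt (Set.univ : Set ↥X.obj.left) w) :
    w = gen X :=
  (hw.2 (gen X) trivial (genericPoint_specializes w)).symm

theorem cl_gen (X : Var k) : T.cl X (gen X) = 1 := by
  obtain ⟨hcl, -⟩ := T.point (pt X) (dim_pt X)
  let ξ : ↥(pt X).obj.left := gen (pt X)
  have huniv : (sm (toPt X)) ⁻¹' closure ({ξ} : Set ↥(pt X).obj.left) = Set.univ :=
    Set.eq_univ_of_forall fun w => subset_closure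
      (Subsingleton.elim ((sm (toPt X)) w) ξ)
  have hgen : IsCompPt ((sm (toPt X)) ⁻¹' closure ({ξ} : Set ↥(pt X).obj.left)) (gen X) := by
    rw [huniv]
    exact ⟨trivial, fun w _ hw => hw.antisymm (genericPoint_specializes w) |>.eq⟩
  have h := T.cl_pull (toPt X) ξ (fun w hw => by
      rw [huniv] at hw
      rw [specializes_eq_gen hw, pdim_gen, pdim_pt, dim_pt]
      simp) (Or.inl ⟨⊤, fun _ _ => trivial, by
        have : Flat (sm (toPt X)) := (inferInstance : Flat X.obj.hom)
        infer_instance⟩)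
  rw [hcl, map_one, finsum_eq_single _ (⟨gen X, hgen⟩ : {w // IsCompPt _ w}) (fun w hw =>
    (hw (Subtype.ext (specializes_eq_gen (X := X) (huniv.subst (motive := fun S => IsCompPt S w.1) w.2)))).elim)] at h
  have hm : preimMult (sm (toPt X)) ξ (gen X) hgen.1 = 1 := by
    let S := X.obj.left.presheaf.stalk (gen X)
    have hS : IsField S :=
      (inferInstance : Field X.obj.left.functionField).toIsField
    set I : Ideal S := Ideal.map ((sm (toPt X)).stalkMap (gen X)).hom
      (RingHom.ker (Cyc.specMap (sm (toPt X) (gen X)) ξ (specializes_iff_mem_closure.mpr hgen.1)))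
    have hle : I ≤ IsLocalRing.maximalIdeal S := by
      refine Ideal.map_le_iff_le_comap.2 fun a ha => ?_
      exact fun hu => IsLocalRing.le_maximalIdeal (RingHom.ker_ne_top _) ha
        (isUnit_of_map_unit ((sm (toPt X)).stalkMap (gen X)).hom a hu)
    have hI' : I = IsLocalRing.maximalIdeal S :=
      le_antisymm hle (by rw [IsLocalRing.isField_iff_maximalIdeal_eq.1 hS]; exact bot_le)
    have hsimp : IsSimpleModule S (S ⧸ I) :=
      isSimpleModule_iff_isCoatom.2 (by rw [hI']; exact (IsLocalRing.maximalIdeal.isMaximal S).out)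
    show (Module.length S (S ⧸ I)).toNat = 1
    rw [Module.length_eq_one, ENat.toNat_one]
  simp only [hm, Nat.cast_one, one_smul] at h
  exact h.symm

/-- Pull-back to a variety of the same dimension and the trace. -/
theorem tr_pull_dominant (f : X ⟶ Y) (hdom : sm f (gen X) = gen Y)
    (hdim : dim X.obj.left = dim Y.obj.left) {a : T.H Y} (ha : a ∈ T.gr Y (2 * 𝐝 Y)) :
    T.tr X (T.pull f a) = ((sm f).residueDegree (gen X) : K) * T.tr Y a := by
  have h := T.cl_push f (gen X) a (mem_congr T (by rw [pdim_gen, hdim]) ha)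
  rwa [cl_gen T, hdom, cl_gen T, one_mul, one_mul] at h

theorem over_w (f : X ⟶ Y) : sm f ≫ Y.obj.hom = X.obj.hom := Over.w f.hom

theorem sm_section {j : X ⟶ Y} {p : Y ⟶ X} (h : j ≫ p = 𝟙 X) : sm j ≫ sm p = 𝟙 X.obj.left := by
  simp only [sm, ← Over.comp_left, ← ObjectProperty.FullSubcategory.comp_hom, h]
  rfl

theorem pdim_section {j : X ⟶ Y} {p : Y ⟶ X} (h : j ≫ p = 𝟙 X) (ξ : ↥X.obj.left) :
    pdim Y.obj.left (sm j ξ) = pdim X.obj.left ξ := by
  have : IsIso ((sm j).residueFieldMap ξ) := by
    rw [ConcreteCategory.isIso_iff_bijective]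
    exact bijective_residueFieldMap_section (sm_section h) ξ
  have : LocallyOfFiniteType (sm j ≫ Y.obj.hom) := by rw [over_w]; infer_instance
  rw [pdim_eq_deg, pdim_eq_deg, ← VarDim.deg_comp Y.obj.hom (sm j) ξ]
  exact VarDim.deg_congr (over_w j) ξ

theorem residueDegree_section {j : X ⟶ Y} {p : Y ⟶ X} (h : j ≫ p = 𝟙 X) (ξ : ↥X.obj.left) :
    (sm j).residueDegree ξ = 1 :=
  residueDegree_eq_one_of_surjective _ ξ (bijective_residueFieldMap_section (sm_section h) ξ).2

/-- The trace of a class times the class of a section. -/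
theorem tr_cl_section {j : X ⟶ Y} {p : Y ⟶ X} (h : j ≫ p = 𝟙 X) (ξ : ↥X.obj.left) {x : T.H Y}
    (hx : x ∈ T.gr Y (2 * (pdim X.obj.left ξ : ℤ))) :
    T.tr Y (T.cl Y (sm j ξ) * x) = T.tr X (T.cl X ξ * T.pull j x) := by
  rw [T.cl_push j ξ x hx, residueDegree_section h, Nat.cast_one, one_mul]

/-- The class of the graph represents the graph. -/
theorem isGraphClass_cl {j : X ⟶ Y} {p : Y ⟶ X} (h : j ≫ p = 𝟙 X) :
    IsGraphClass T j (T.cl Y (sm j (gen X))) (2 * (codim Y.obj.left (sm j (gen X)) : ℤ)) where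
  mem := T.cl_mem Y _
  tr_mul x hx := by
    rw [tr_cl_section T h (gen X) (by rwa [pdim_gen]), cl_gen T, one_mul]

theorem codim_graph {Q : Var k} {p : Q ⟶ X} {q : Q ⟶ Y} (hP : IsProd p q) {j : X ⟶ Q}
    (hjp : j ≫ p = 𝟙 X) (T : Theory k K) :
    (codim Q.obj.left (sm j (gen X)) : ℤ) = 𝐝 Y := by
  rw [cast_codim, pdim_section hjp, pdim_gen, dim_prod T hP]
  ring

theorem rdeg_eq_zero_of_residueDegree_ne_zero {A B : Scheme.{u}} (f : A ⟶ B) (x : A)
    (h : f.residueDegree x ≠ 0) : VarDim.rdeg f x = 0 := by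
  letI := (f.residueFieldMap x).hom.toAlgebra
  have : Module.Finite (B.residueField (f x)) (A.residueField x) :=
    Module.finite_of_finrank_pos (Nat.pos_of_ne_zero h)
  exact trdeg_eq_zero

theorem pdim_eq_of_residueDegree_ne_zero (f : X ⟶ Y) (ξ : ↥X.obj.left)
    (h : (sm f).residueDegree ξ ≠ 0) : pdim Y.obj.left (sm f ξ) = pdim X.obj.left ξ := by
  have : LocallyOfFiniteType (sm f ≫ Y.obj.hom) := by rw [over_w]; infer_instance
  have : LocallyOfFiniteType (sm f) := locallyOfFiniteType_of_comp (sm f) Y.obj.hom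
  rw [pdim_eq_deg, pdim_eq_deg, VarDim.deg_eq_add (sm f) Y.obj.hom (over_w f) ξ, VarDim.fdeg,
    rdeg_eq_zero_of_residueDegree_ne_zero _ ξ h, map_zero, add_zero]

/-- Push-forward of the class of a closed irreducible subset. -/
theorem push_cl (f : X ⟶ Y) (ξ : ↥X.obj.left) :
    (T.push f (2 * (codim X.obj.left ξ : ℤ)) ⟨T.cl X ξ, T.cl_mem X ξ⟩ : T.H Y) =
      ((sm f).residueDegree ξ : K) • T.cl Y (sm f ξ) := by
  refine push_eq T f _ _ ?_ fun b hb => ?_
  · rcases eq_or_ne ((sm f).residueDegree ξ) 0 with h | h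
    · rw [h, Nat.cast_zero, zero_smul]; exact Submodule.zero_mem _
    · exact Submodule.smul_mem _ _ (mem_congr T (by
        rw [cast_codim, cast_codim, pdim_eq_of_residueDegree_ne_zero f ξ h]; ring) (T.cl_mem Y _))
  · show _ = T.tr X (T.cl X ξ * T.pull f b)
    rw [T.cl_push f ξ b (mem_congr T (by rw [cast_codim]; ring) hb), smul_mul_assoc, map_smul,
      smul_eq_mul]

end

end Groth.Agent.WeilLib
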