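import Mathlib.LinearAlgebra.Matrix.Charpoly.Coeff
import Mathlib.LinearAlgebra.Charpoly.ToMatrix
import Mathlib.LinearAlgebra.Trace
import Mathlib.RingTheory.PowerSeries.Exp
import Mathlib.RingTheory.PowerSeries.Derivative
import Mathlib.RingTheory.PowerSeries.Substitution

/-!
# Power series through their logarithmic derivatives; `det (1 - t M)` as an exponential
-/

universe u v

open PowerSeries

namespace Groth.Agent.WeilLib

noncomputable section

section Ring

variable {R : Type u} [CommRing R]

/-- `F' = F * D`. -/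
def HasLogDeriv (F D : R⟦X⟧) : Prop := d⁄dX R F = F * D

theorem HasLogDeriv.one : HasLogDeriv (1 : R⟦X⟧) 0 := by
  rw [HasLogDeriv, mul_zero, Derivation.map_one_eq_zero]

theorem HasLogDeriv.mul {F G D E : R⟦X⟧} (hF : HasLogDeriv F D) (hG : HasLogDeriv G E) :
    HasLogDeriv (F * G) (D + E) := by
  rw [HasLogDeriv, Derivation.leibniz, hF, hG, smul_eq_mul, smul_eq_mul]
  ring

theorem HasLogDeriv.prod {ι : Type v} (s : Finset ι) {F D : ι → R⟦X⟧}
    (h : ∀ i ∈ s, HasLogDeriv (F i) (D i)) :
    HasLogDeriv (∏ i ∈ s, F i) (∑ i ∈ s, D i) := by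
  classical
  induction s using Finset.induction_on with
  | empty => exact HasLogDeriv.one
  | @insert a s ha ih =>
    rw [Finset.prod_insert ha, Finset.sum_insert ha]
    exact (h a (Finset.mem_insert_self a s)).mul (ih fun i hi => h i (Finset.mem_insert_of_mem hi))

variable [IsAddTorsionFree R]

/-- A series is determined by its constant term and logarithmic derivative. -/
theorem HasLogDeriv.unique {F G D : R⟦X⟧} (hF : HasLogDeriv F D) (hG : HasLogDeriv G D)
    (h0 : constantCoeff F = constantCoeff G) : F = G := by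
  ext n
  induction n using Nat.strong_induction_on with
  | _ n ih =>
    match n with
    | 0 => rw [coeff_zero_eq_constantCoeff, h0]
    | m + 1 =>
      have h1 : coeff m (d⁄dX R F) = coeff m (d⁄dX R G) := by
        rw [hF, hG, coeff_mul, coeff_mul]
        refine Finset.sum_congr rfl fun p hp => ?_
        rw [ih p.1 (by have := Finset.HasAntidiagonal.mem_antidiagonal.1 hp; omega)]
      rw [coeff_derivative, coeff_derivative, ← Nat.cast_succ, mul_comm, ← nsmul_eq_mul, mul_comm,
        ← nsmul_eq_mul] at h1
      exact (smul_right_inj (Nat.succ_ne_zero m)).1 h1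

end Ring

section Matrix

variable {R : Type u} [CommRing R] {n : Type v} [Fintype n] [DecidableEq n] (M : Matrix n n R)

/-- `∑ M^(m+1) t^m`, as a matrix of series. -/
def geomMatrix : Matrix n n R⟦X⟧ := Matrix.of fun i j => PowerSeries.mk fun m => (M ^ (m + 1)) i j

theorem one_sub_mul_geomMatrix :
    (1 - (PowerSeries.X : R⟦X⟧) • M.map PowerSeries.C) * geomMatrix M = M.map PowerSeries.C := by
  ext i j m
  rw [sub_mul, one_mul, smul_mul_assoc, Matrix.sub_apply, Matrix.smul_apply, map_sub, smul_eq_mul]
  rcases m with _ | m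
  · simp [geomMatrix]
  · rw [coeff_succ_X_mul, Matrix.mul_apply, map_sum]
    simp only [geomMatrix, Matrix.of_apply, Matrix.map_apply, coeff_C_mul, coeff_mk,
      coeff_C, Nat.succ_ne_zero, if_false]
    rw [sub_eq_zero, pow_succ' M (m + 1), Matrix.mul_apply]

/-- **Jacobi's formula** for `det (1 - t M)`. -/
theorem hasLogDeriv_charpolyRev :
    HasLogDeriv ((M.charpolyRev : Polynomial R) : R⟦X⟧)
      (- PowerSeries.mk fun m => Matrix.trace (M ^ (m + 1))) := by
  let S := R⟦X⟧
  let A : Matrix n n S := 1 - (PowerSeries.X : S) • M.map PowerSeries.C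
  let ι : Polynomial R →+* Polynomial S := Polynomial.eval₂RingHom
    (Polynomial.C.comp PowerSeries.C) (Polynomial.C (PowerSeries.X : S) + Polynomial.X)
  have h1 : ι M.charpolyRev = Polynomial.C A.det *
      (1 + (Polynomial.X : Polynomial S) • (-geomMatrix M).map Polynomial.C).det := by
    rw [Matrix.charpolyRev, RingHom.map_det, RingHom.map_det, ← Matrix.det_mul]
    congr 1
    have hA : (Polynomial.C (R := S)).mapMatrix A * (geomMatrix M).map Polynomial.C =
        (M.map PowerSeries.C).map Polynomial.C := by
      rw [← one_sub_mul_geomMatrix M]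
      exact (Matrix.map_mul).symm
    rw [mul_add, mul_one, mul_smul_comm, Matrix.map_neg _ (map_neg _), Matrix.mul_neg, hA]
    refine Matrix.ext fun i j => ?_
    simp only [A, ι, RingHom.mapMatrix_apply, Matrix.map_apply, Matrix.sub_apply, Matrix.add_apply,
      Matrix.neg_apply, Matrix.smul_apply, Matrix.one_apply, smul_eq_mul]
    split_ifs <;> simp <;> ring_nf
  have h2 : ∀ P : Polynomial R, (Polynomial.derivative (ι P)).eval 0 =
      ((Polynomial.derivative P : Polynomial R) : S) := fun P => by
    induction P using Polynomial.induction_on with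
    | C a => simp [ι]
    | add p q hp hq => simp [map_add, hp, hq]
    | monomial m a _ =>
      simp [ι]
      rw [Polynomial.derivative_pow_succ]
      simp
      rw [show ((m : Polynomial R) : S) = (m : S) from
        map_natCast Polynomial.coeToPowerSeries.ringHom m]
  have h3 : A.det = ((M.charpolyRev : Polynomial R) : S) := by
    rw [Matrix.charpolyRev,
      show ((Matrix.det (1 - (Polynomial.X : Polynomial R) • M.map Polynomial.C) : Polynomial R) : S) =
        Polynomial.coeToPowerSeries.ringHom (Matrix.det (1 - (Polynomial.X : Polynomial R) •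
          M.map Polynomial.C)) from rfl, RingHom.map_det]
    congr 1
    refine Matrix.ext fun i j => ?_
    simp only [A, RingHom.mapMatrix_apply, Matrix.map_apply, Matrix.sub_apply, Matrix.smul_apply,
      Matrix.one_apply, smul_eq_mul, map_sub, map_mul]
    split_ifs <;> simp
  have h := congrArg (fun P => (Polynomial.derivative P).eval (0 : S)) h1
  simp only [h2, Polynomial.derivative_mul, Polynomial.derivative_C, zero_mul, zero_add,
    Polynomial.eval_mul, Polynomial.eval_C, Matrix.derivative_det_one_add_X_smul] at h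
  rw [HasLogDeriv, derivative_coe, h, h3, Matrix.trace_neg, mul_neg, mul_neg]
  congr 2
  ext m
  simp [Matrix.trace, geomMatrix, map_sum]

end Matrix

section LinearMap

variable {R : Type u} [Field R] {V : Type v} [AddCommGroup V] [Module R V] [FiniteDimensional R V]
  (φ : V →ₗ[R] V)

theorem hasLogDeriv_reverse_charpoly :
    HasLogDeriv ((φ.charpoly.reverse : Polynomial R) : R⟦X⟧)
      (- PowerSeries.mk fun m => LinearMap.trace R V (φ ^ (m + 1))) := by
  let b := Module.finBasis R V
  rw [← LinearMap.charpoly_toMatrix φ b, Matrix.reverse_charpoly]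
  have h : (PowerSeries.mk fun m => LinearMap.trace R V (φ ^ (m + 1))) =
      PowerSeries.mk fun m => Matrix.trace ((LinearMap.toMatrixAlgEquiv b φ) ^ (m + 1)) := by
    congr 1
    funext m
    rw [LinearMap.trace_eq_matrix_trace R b, ← map_pow]
    rfl
  rw [h]
  exact hasLogDeriv_charpolyRev (LinearMap.toMatrixAlgEquiv b φ)

theorem constantCoeff_reverse_charpoly :
    constantCoeff ((φ.charpoly.reverse : Polynomial R) : R⟦X⟧) = 1 := by
  rw [Polynomial.constantCoeff_coe, Polynomial.coeff_zero_reverse, φ.charpoly_monic]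

end LinearMap

section Exp

variable {K : Type u} [Field K] [CharZero K]

theorem hasLogDeriv_exp_subst {L : K⟦X⟧} (h0 : constantCoeff L = 0) :
    HasLogDeriv (PowerSeries.subst L (PowerSeries.exp K)) (d⁄dX K L) := by
  rw [HasLogDeriv, derivative_subst (HasSubst.of_constantCoeff_zero' h0), derivative_exp]

theorem constantCoeff_exp_subst {L : K⟦X⟧} (h0 : constantCoeff L = 0) :
    constantCoeff (PowerSeries.subst L (PowerSeries.exp K)) = 1 := by
  have h : PowerSeries.subst L (PowerSeries.exp K) =
      PowerSeries.subst L (PowerSeries.exp K - 1) + 1 := by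
    rw [← sub_add_cancel (PowerSeries.exp K) 1, subst_add (HasSubst.of_constantCoeff_zero' h0),
      sub_add_cancel]
    congr 1
    rw [← coe_substAlgHom (HasSubst.of_constantCoeff_zero' h0), map_one]
  rw [h, map_add, map_one]
  show MvPowerSeries.constantCoeff _ + 1 = (1 : K)
  rw [constantCoeff_subst_eq_zero h0 _ (by simp), zero_add]

theorem derivative_mk_div (a : ℕ → K) :
    d⁄dX K (PowerSeries.mk fun m => a m / (m : K)) = PowerSeries.mk fun m => a (m + 1) := by
  ext m
  rw [coeff_derivative, coeff_mk, coeff_mk, ← Nat.cast_succ]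
  exact div_mul_cancel₀ _ (Nat.cast_ne_zero.2 m.succ_ne_zero)

theorem constantCoeff_mk_div (a : ℕ → K) :
    constantCoeff (PowerSeries.mk fun m => a m / (m : K)) = 0 := by
  simp [← coeff_zero_eq_constantCoeff_apply]

/-- `det (1 - t M) = exp (- ∑ tr (M^m) t^m / m)`. -/
theorem charpolyRev_eq_exp {n : Type v} [Fintype n] [DecidableEq n] (M : Matrix n n K) :
    ((M.charpolyRev : Polynomial K) : PowerSeries K) =
      PowerSeries.subst (PowerSeries.mk fun m : ℕ => -(Matrix.trace (M ^ m)) / (m : K))
        (PowerSeries.exp K) := by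
  refine (hasLogDeriv_charpolyRev M).unique ?_ ?_
  · have := hasLogDeriv_exp_subst (constantCoeff_mk_div fun m => -(Matrix.trace (M ^ m)))
    rw [derivative_mk_div] at this
    convert this using 1
    ext m
    simp
  · rw [constantCoeff_exp_subst (constantCoeff_mk_div _), Polynomial.constantCoeff_coe,
      Polynomial.coeff_zero_eq_eval_zero, Matrix.eval_charpolyRev]

end Exp

/-- Splitting an alternating sum by parity. -/
theorem sum_range_even_odd {A : Type u} [AddCommGroup A] (d : ℕ) (T : ℕ → A) :
    ∑ i ∈ Finset.range (2 * d + 1), ((-1 : ℤ) ^ i) • T i =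
      ∑ i ∈ Finset.range (d + 1), T (2 * i) - ∑ i ∈ Finset.range d, T (2 * i + 1) := by
  induction d with
  | zero => simp
  | succ d ih =>
    rw [show 2 * (d + 1) + 1 = (2 * d + 1) + 1 + 1 by ring, Finset.sum_range_succ,
      Finset.sum_range_succ, ih, Finset.sum_range_succ _ (d + 1),
      Finset.sum_range_succ (fun i => T (2 * i + 1)),
      Even.neg_one_pow (show Even (2 * d + 1 + 1) from ⟨d + 1, by ring⟩),
      Odd.neg_one_pow (show Odd (2 * d + 1) from ⟨d, rfl⟩), one_zsmul, neg_one_zsmul,
      show 2 * (d + 1) = 2 * d + 1 + 1 by ring]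
    abel

end

end Groth.Agent.WeilLib
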