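import Mathlib.RingTheory.PowerSeries.Trunc
import Mathlib.LinearAlgebra.Dual.Lemmas

/-!
# Rationality of power series: windows of coefficients and descent along field extensions
-/

universe u v

open PowerSeries

namespace Groth.Agent.WeilLib

noncomputable section

variable {L : Type u} [Field L]

/-- Rationality descends along extensions of fields. -/
theorem exists_polynomial_of_map {L' : Type v} [Field L'] [Algebra L L'] {f : PowerSeries L}
    (h : ∃ P Q : Polynomial L', Q ≠ 0 ∧
      PowerSeries.map (algebraMap L L') f * (Q : PowerSeries L') = (P : PowerSeries L')) :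
    ∃ P Q : Polynomial L, Q ≠ 0 ∧ f * (Q : PowerSeries L) = (P : PowerSeries L) := by
  classical
  obtain ⟨P, Q, hQ, hPQ⟩ := h
  obtain ⟨n, hn⟩ : ∃ n, Q.coeff n ≠ 0 := by
    by_contra hall
    push Not at hall
    exact hQ (Polynomial.ext fun n => by simpa using hall n)
  obtain ⟨l, hl⟩ : ∃ l : Module.Dual L L', l (Q.coeff n) ≠ 0 := by
    by_contra hall
    push Not at hall
    exact hn ((Module.forall_dual_apply_eq_zero_iff L _).1 hall)
  let desc : Polynomial L' → Polynomial L := fun R =>
    ∑ i ∈ Finset.range (R.natDegree + 1), Polynomial.monomial i (l (R.coeff i))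
  have hdesc : ∀ (R : Polynomial L') i, (desc R).coeff i = l (R.coeff i) := fun R i => by
    simp only [desc, Polynomial.finsetSum_coeff, Polynomial.coeff_monomial, Finset.sum_ite_eq',
      Finset.mem_range]
    split_ifs with hi
    · rfl
    · rw [Polynomial.coeff_eq_zero_of_natDegree_lt (by omega), map_zero]
  refine ⟨desc P, desc Q, fun h0 => hl (by rw [← hdesc, h0, Polynomial.coeff_zero]), ?_⟩
  ext m
  have hm := congrArg (coeff m) hPQ
  rw [coeff_mul, Polynomial.coeff_coe] at hm
  rw [coeff_mul, Polynomial.coeff_coe, hdesc, ← hm, map_sum]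
  refine Finset.sum_congr rfl fun x _ => ?_
  rw [Polynomial.coeff_coe, Polynomial.coeff_coe, hdesc, coeff_map, ← Algebra.smul_def, map_smul,
    smul_eq_mul]

theorem exists_polynomial_map {L' : Type v} [Field L'] [Algebra L L'] {f : PowerSeries L}
    (h : ∃ P Q : Polynomial L, Q ≠ 0 ∧ f * (Q : PowerSeries L) = (P : PowerSeries L)) :
    ∃ P Q : Polynomial L', Q ≠ 0 ∧
      PowerSeries.map (algebraMap L L') f * (Q : PowerSeries L') = (P : PowerSeries L') := by
  obtain ⟨P, Q, hQ, hPQ⟩ := h
  refine ⟨P.map (algebraMap L L'), Q.map (algebraMap L L'),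
    (Polynomial.map_ne_zero_iff (algebraMap L L').injective).2 hQ, ?_⟩
  rw [Polynomial.polynomial_map_coe, Polynomial.polynomial_map_coe, ← map_mul, hPQ]

/-- A series is rational iff some family of windows of its coefficients does not span. -/
theorem exists_polynomial_iff_windows (f : PowerSeries L) :
    (∃ P Q : Polynomial L, Q ≠ 0 ∧ f * (Q : PowerSeries L) = (P : PowerSeries L)) ↔
      ∃ M N : ℕ, Submodule.span L
          {v : Fin (N + 1) → L | ∃ i : ℕ, M ≤ i ∧ v = fun j : Fin (N + 1) => coeff (i + (j : ℕ)) f} ≠ ⊤ := by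
  classical
  constructor
  · rintro ⟨P, Q, hQ, hPQ⟩
    refine ⟨P.natDegree + 1, Q.natDegree, fun htop => ?_⟩
    let φ : Module.Dual L (Fin (Q.natDegree + 1) → L) :=
      ∑ j : Fin (Q.natDegree + 1), Q.coeff (Q.natDegree - j) • LinearMap.proj j
    have hφ : φ = 0 := by
      refine LinearMap.ext_on htop ?_
      rintro v ⟨i, hi, rfl⟩
      have h := congrArg (coeff (i + Q.natDegree)) hPQ
      rw [Polynomial.coeff_coe, Polynomial.coeff_eq_zero_of_natDegree_lt (p := P) (by omega),
        coeff_mul, Finset.Nat.sum_antidiagonal_eq_sum_range_succ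
          (fun a b => coeff a f * coeff b (Q : PowerSeries L))] at h
      rw [LinearMap.zero_apply, ← h]
      simp only [φ, LinearMap.sum_apply, LinearMap.smul_apply, LinearMap.proj_apply, smul_eq_mul]
      rw [Fin.sum_univ_eq_sum_range (fun j => Q.coeff (Q.natDegree - j) * coeff (i + j) f)]
      conv_rhs => rw [show (i + Q.natDegree).succ = i + (Q.natDegree + 1) by omega,
        Finset.sum_range_add]
      rw [Finset.sum_eq_zero (s := Finset.range i) fun a ha => ?_, zero_add]
      · refine Finset.sum_congr rfl fun j hj => ?_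
        rw [Polynomial.coeff_coe, mul_comm, Nat.add_sub_add_left]
      · rw [Polynomial.coeff_coe, Polynomial.coeff_eq_zero_of_natDegree_lt (p := Q)
          (by have := Finset.mem_range.1 ha; omega), mul_zero]
    have h0 := LinearMap.congr_fun hφ (Pi.single 0 1)
    simp [φ, Pi.single_apply] at h0
    exact hQ h0
  · rintro ⟨M, N, hne⟩
    obtain ⟨φ, hφ, hspan⟩ := Submodule.exists_dual_map_eq_bot_of_lt_top (lt_top_iff_ne_top.2 hne)
      inferInstance
    let c : Fin (N + 1) → L := fun j => φ (Pi.single j 1)
    let Q : Polynomial L := ∑ j : Fin (N + 1), Polynomial.monomial (N - j) (c j)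
    have hQc : ∀ j : Fin (N + 1), Q.coeff (N - j) = c j := fun j => by
      simp only [Q, Polynomial.finsetSum_coeff, Polynomial.coeff_monomial]
      rw [Finset.sum_eq_single j (fun i _ hij => if_neg fun h => hij (Fin.ext (by omega)))
        (by simp), if_pos rfl]
    have hQ : Q ≠ 0 := fun h0 => hφ (LinearMap.pi_ext fun j a => by
      rw [show (Pi.single j a : Fin (N + 1) → L) = a • Pi.single j 1 by
          rw [← Pi.single_smul, smul_eq_mul, mul_one], map_smul, LinearMap.zero_apply]
      rw [show φ (Pi.single j 1) = c j from rfl, ← hQc j, h0, Polynomial.coeff_zero, smul_zero])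
    refine ⟨trunc (M + N + 1) (f * (Q : PowerSeries L)), Q, hQ, ?_⟩
    ext m
    rw [Polynomial.coeff_coe, coeff_trunc]
    split_ifs with hm
    · rfl
    have hmem : (fun j : Fin (N + 1) => coeff (m - N + (j : ℕ)) f) ∈
        Submodule.span L {v : Fin (N + 1) → L | ∃ i : ℕ, M ≤ i ∧ v = fun j : Fin (N + 1) =>
          coeff (i + (j : ℕ)) f} :=
      Submodule.subset_span ⟨m - N, by omega, rfl⟩
    have h := Submodule.mem_map_of_mem (f := φ) hmem
    rw [hspan, Submodule.mem_bot, LinearMap.pi_apply_eq_sum_univ φ] at h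
    rw [show (Q : PowerSeries L) = ∑ j : Fin (N + 1),
      ((Polynomial.monomial (N - j) (c j) : Polynomial L) : PowerSeries L) from
        map_sum (Polynomial.coeToPowerSeries.ringHom (R := L))
          (fun j : Fin (N + 1) => Polynomial.monomial (N - (j : ℕ)) (c j)) Finset.univ]
    rw [Finset.mul_sum, map_sum, ← h]
    refine Finset.sum_congr rfl fun j _ => ?_
    rw [Polynomial.coe_monomial, monomial_eq_C_mul_X_pow, ← mul_assoc,
      coeff_mul_X_pow', if_pos (by omega), coeff_mul_C, smul_eq_mul,
      show m - (N - (j : ℕ)) = m - N + j by omega]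
    congr 2
    show φ (Pi.single j 1) = _
    congr 1
    funext i
    simp [Pi.single_apply, eq_comm]

end

end Groth.Agent.WeilLib
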