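import Groth.Agent.WeilLib.Fixed
import Groth.Agent.WeilLib.ExpSeries
import Groth.Agent.WeilLib.RatSeries

/-!
# The zeta function through a Weil cohomology theory
-/

universe u v

open AlgebraicGeometry CategoryTheory

namespace Groth.Agent.WeilLib

open WeilCoh

noncomputable section

section Map

variable {R S : Type*} [CommRing R] [CommRing S] (φ : R →+* S)

theorem HasLogDeriv.map {F D : PowerSeries R} (h : HasLogDeriv F D) :
    HasLogDeriv (PowerSeries.map φ F) (PowerSeries.map φ D) := by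
  have hd : ∀ G : PowerSeries R, PowerSeries.derivative S (PowerSeries.map φ G) =
      PowerSeries.map φ (PowerSeries.derivative R G) := fun G => by
    ext n
    simp [PowerSeries.coeff_derivative]
  rw [HasLogDeriv, hd, h, map_mul]

end Map

theorem isPowMap_of_hyp {X : Scheme.{u}} (FX : X ⟶ X) (Q : ℕ) (hFb : FX.base = 𝟙 _)
    (hle : ∀ U : X.Opens, U ≤ FX ⁻¹ᵁ U)
    (hFapp : ∀ (U : X.Opens) (s : Γ(X, U)), (FX.appLE U U (hle U)).hom s = s ^ Q) :
    IsPowMap FX Q where
  base x := by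
    show FX.base x = x
    rw [hFb]
    rfl
  app U _ s := hFapp U s

variable {k₀ : Type u} [Field k₀] [Finite k₀] {k : Type u} [Field k] [IsAlgClosed k] [Algebra k₀ k]
variable {K : Type v} [Field K] [CharZero K] (T : Theory k K)
variable {X : Scheme.{u}} {f : X ⟶ Spec (CommRingCat.of k₀)} {Xb : Var k} {π : Xb.obj.left ⟶ X}

omit [Finite k₀] in
theorem exists_iterate {FX : X ⟶ X} {q : ℕ} (hFX : IsPowMap FX q) {F : Xb ⟶ Xb}
    (hF : sm F ≫ π = π ≫ FX) (n : ℕ) :
    ∃ (G : Xb ⟶ Xb) (FXn : X ⟶ X), IsPowMap FXn (q ^ n) ∧ sm G ≫ π = π ≫ FXn ∧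
      ∀ i, T.pullDeg G i = (T.pullDeg F i) ^ n := by
  induction n with
  | zero =>
    refine ⟨𝟙 Xb, 𝟙 X, by rw [pow_zero]; exact isPowMap_id, ?_, fun i => ?_⟩
    · rw [Category.comp_id]
      exact Category.id_comp _
    · rw [pow_zero]
      refine LinearMap.ext fun a => Subtype.ext ?_
      show T.pull (𝟙 Xb) (a : T.H Xb) = a
      rw [T.pull_id]
      rfl
  | succ n ih =>
    obtain ⟨G, FXn, h1, h2, h3⟩ := ih
    refine ⟨G ≫ F, FXn ≫ FX, by rw [pow_succ]; exact h1.comp hFX, ?_, fun i => ?_⟩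
    · show (sm G ≫ sm F) ≫ π = _
      rw [Category.assoc, hF, ← Category.assoc, h2, Category.assoc]
    · rw [pow_succ, ← h3]
      refine LinearMap.ext fun a => Subtype.ext ?_
      show T.pull (G ≫ F) (a : T.H Xb) = T.pull G (T.pull F (a : T.H Xb))
      rw [T.pull_comp]
      rfl

theorem nPts_eq_trace [LocallyOfFiniteType f] {FX : X ⟶ X} (hFX : IsPowMap FX (Nat.card k₀))
    (hπ : CategoryTheory.IsPullback π Xb.obj.hom f (Spec.map (CommRingCat.ofHom (algebraMap k₀ k))))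
    {F : Xb ⟶ Xb} (hF : sm F ≫ π = π ≫ FX) {Pb : Var k} {p q : Pb ⟶ Xb} (hP : IsProd p q)
    (m : ℕ) :
    (Zeta.nPts f (m + 1) : K) = ∑ i ∈ Finset.range (2 * WeilCoh.dim Xb.obj.left + 1),
        ((-1 : ℤ) ^ i) • LinearMap.trace K ↥(T.gr Xb (i : ℤ)) (T.pullDeg F (i : ℤ) ^ (m + 1)) := by
  obtain ⟨G, FXn, h1, h2, h3⟩ := exists_iterate T hFX hF (m + 1)
  rw [← alternating_trace_eq_nPts T hP hπ (Nat.succ_pos m) h1 h2]
  refine Finset.sum_congr rfl fun i _ => ?_
  rw [h3, zsmul_eq_mul]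
  push_cast
  rfl

/-- **The zeta function as an alternating product of characteristic polynomials.** -/
theorem zeta_identity [LocallyOfFiniteType f] {FX : X ⟶ X} (hFX : IsPowMap FX (Nat.card k₀))
    (hπ : CategoryTheory.IsPullback π Xb.obj.hom f (Spec.map (CommRingCat.ofHom (algebraMap k₀ k))))
    {F : Xb ⟶ Xb} (hF : sm F ≫ π = π ≫ FX) {Pb : Var k} {p q : Pb ⟶ Xb} (hP : IsProd p q) :
    PowerSeries.map (algebraMap ℚ K) (Zeta.zetaFun f) *
        (∏ i ∈ Finset.range (WeilCoh.dim Xb.obj.left + 1),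
          ((LinearMap.charpoly (T.pullDeg F ((2 * i : ℕ) : ℤ))).reverse : PowerSeries K)) =
      ∏ i ∈ Finset.range (WeilCoh.dim Xb.obj.left),
        ((LinearMap.charpoly (T.pullDeg F ((2 * i + 1 : ℕ) : ℤ))).reverse : PowerSeries K) := by
  let φ : ℕ → PowerSeries K := fun i =>
    PowerSeries.mk fun m => LinearMap.trace K ↥(T.gr Xb (i : ℤ)) (T.pullDeg F (i : ℤ) ^ (m + 1))
  have hE : HasLogDeriv (∏ i ∈ Finset.range (WeilCoh.dim Xb.obj.left + 1),
      ((LinearMap.charpoly (T.pullDeg F ((2 * i : ℕ) : ℤ))).reverse : PowerSeries K))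
      (∑ i ∈ Finset.range (WeilCoh.dim Xb.obj.left + 1), - φ (2 * i)) :=
    HasLogDeriv.prod _ fun i _ => hasLogDeriv_reverse_charpoly _
  have hO : HasLogDeriv (∏ i ∈ Finset.range (WeilCoh.dim Xb.obj.left),
      ((LinearMap.charpoly (T.pullDeg F ((2 * i + 1 : ℕ) : ℤ))).reverse : PowerSeries K))
      (∑ i ∈ Finset.range (WeilCoh.dim Xb.obj.left), - φ (2 * i + 1)) :=
    HasLogDeriv.prod _ fun i _ => hasLogDeriv_reverse_charpoly _
  have h0 : PowerSeries.constantCoeff (Zeta.logZeta f) = 0 := constantCoeff_mk_div _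
  have hZ : HasLogDeriv (Zeta.zetaFun f) (PowerSeries.mk fun m => (Zeta.nPts f (m + 1) : ℚ)) := by
    have h := hasLogDeriv_exp_subst h0
    rw [Zeta.logZeta, derivative_mk_div] at h
    exact h
  have hZK := (hZ.map (algebraMap ℚ K)).mul hE
  have hD : PowerSeries.map (algebraMap ℚ K) (PowerSeries.mk fun m => (Zeta.nPts f (m + 1) : ℚ)) +
      ∑ i ∈ Finset.range (WeilCoh.dim Xb.obj.left + 1), - φ (2 * i) =
      ∑ i ∈ Finset.range (WeilCoh.dim Xb.obj.left), - φ (2 * i + 1) := by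
    ext m
    rw [map_add, map_sum, map_sum, PowerSeries.coeff_map, PowerSeries.coeff_mk, map_natCast,
      nPts_eq_trace T hFX hπ hF hP, sum_range_even_odd]
    simp only [map_neg, φ, PowerSeries.coeff_mk, Finset.sum_neg_distrib]
    abel
  rw [hD] at hZK
  refine hZK.unique hO ?_
  rw [map_mul, map_prod, map_prod, Finset.prod_eq_one fun i _ => constantCoeff_reverse_charpoly _,
    Finset.prod_eq_one fun i _ => constantCoeff_reverse_charpoly _, mul_one,
    ← PowerSeries.coeff_zero_eq_constantCoeff_apply, PowerSeries.coeff_map,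
    PowerSeries.coeff_zero_eq_constantCoeff_apply]
  show algebraMap ℚ K (PowerSeries.constantCoeff (PowerSeries.subst (Zeta.logZeta f) (PowerSeries.exp ℚ))) = 1
  have h1 := constantCoeff_exp_subst h0
  exact (congrArg (algebraMap ℚ K) h1).trans (map_one _)

include T in
/-- **Rationality of the zeta function from a theory.** -/
theorem zeta_rational [LocallyOfFiniteType f] {FX : X ⟶ X} (hFX : IsPowMap FX (Nat.card k₀))
    (hπ : CategoryTheory.IsPullback π Xb.obj.hom f (Spec.map (CommRingCat.ofHom (algebraMap k₀ k))))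
    {F : Xb ⟶ Xb} (hF : sm F ≫ π = π ≫ FX) {Pb : Var k} {p q : Pb ⟶ Xb} (hP : IsProd p q) :
    ∃ P Q : Polynomial ℚ, Q ≠ 0 ∧ Zeta.zetaFun f * (Q : PowerSeries ℚ) = (P : PowerSeries ℚ) := by
  refine exists_polynomial_of_map (L' := K) ⟨∏ i ∈ Finset.range (WeilCoh.dim Xb.obj.left),
      (LinearMap.charpoly (T.pullDeg F ((2 * i + 1 : ℕ) : ℤ))).reverse,
    ∏ i ∈ Finset.range (WeilCoh.dim Xb.obj.left + 1),
      (LinearMap.charpoly (T.pullDeg F ((2 * i : ℕ) : ℤ))).reverse, ?_, ?_⟩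
  · refine Finset.prod_ne_zero_iff.2 fun i _ h => ?_
    have := constantCoeff_reverse_charpoly (T.pullDeg F ((2 * i : ℕ) : ℤ))
    rw [h] at this
    simp at this
  · have hc : ∀ (s : Finset ℕ) (g : ℕ → Polynomial K),
        ((∏ i ∈ s, g i : Polynomial K) : PowerSeries K) = ∏ i ∈ s, (g i : PowerSeries K) :=
      fun s g => map_prod Polynomial.coeToPowerSeries.ringHom g s
    rw [hc, hc]
    exact zeta_identity T hFX hπ hF hP

end

end Groth.Agent.WeilLib
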