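import Groth.Agent.WeilLib.PowMap
import Groth.Prelude.Def_W4c1zetahwZeta
import Mathlib.FieldTheory.PrimitiveElement
import Mathlib.FieldTheory.Finite.GaloisField

/-!
# Points fixed by a power of the Frobenius are counted by `Zeta.nPts`
-/

universe u

open AlgebraicGeometry CategoryTheory Limits

namespace Groth.Agent.WeilLib

noncomputable section

variable {k₀ : Type u} [Field k₀] {X : Scheme.{u}} (f : X ⟶ Spec (CommRingCat.of k₀))

/-- The composite `Spec κ(x) ⟶ X ⟶ Spec k₀`. -/
theorem fromSpecResidueField_comp (x : X) :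
    X.fromSpecResidueField x ≫ f = Spec.map (CommRingCat.ofHom (VarDim.resHom f x)) := by
  have h : CommRingCat.ofHom (VarDim.resHom f x) =
      (Scheme.ΓSpecIso (CommRingCat.of k₀)).inv ≫ f.appTop ≫ X.presheaf.germ ⊤ x trivial ≫
        X.residue x := by
    ext a
    rfl
  have hf : X.toSpecΓ ≫ Spec.map f.appTop = f ≫ (Spec (CommRingCat.of k₀)).toSpecΓ :=
    (Scheme.toSpecΓ_naturality f).symm
  rw [h, Spec.map_comp, Spec.map_comp, Spec.map_comp, Category.assoc, Category.assoc,
    Scheme.fromSpecResidueField, Category.assoc]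
  congr 1
  rw [← Scheme.fromSpecStalk_toSpecΓ, Category.assoc]
  congr 1
  rw [reassoc_of% hf, ← SpecMap_ΓSpecIso_hom, ← Spec.map_comp, Iso.inv_hom_id, Spec.map_id,
    Category.comp_id]

theorem surjective_resHom_spec (pt : Spec (CommRingCat.of k₀)) :
    Function.Surjective (VarDim.resHom (𝟙 (Spec (CommRingCat.of k₀))) pt) := by
  intro a
  obtain ⟨s, t, ht, hst⟩ := exists_fraction (isAffineOpen_top (Spec (CommRingCat.of k₀))) pt trivial a
  have hval : ∀ s, ∃ c, VarDim.resHom (𝟙 (Spec (CommRingCat.of k₀))) pt c =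
      (Spec (CommRingCat.of k₀)).evaluation ⊤ pt trivial s := fun s => by
    refine ⟨(Scheme.ΓSpecIso (CommRingCat.of k₀)).hom s, ?_⟩
    show (Spec (CommRingCat.of k₀)).evaluation ⊤ pt trivial
      ((Scheme.ΓSpecIso (CommRingCat.of k₀)).inv ((Scheme.ΓSpecIso (CommRingCat.of k₀)).hom s)) = _
    congr 1
    exact congrArg (fun m => m.hom s) (Scheme.ΓSpecIso (CommRingCat.of k₀)).hom_inv_id
  obtain ⟨c, hc⟩ := hval s
  obtain ⟨c', hc'⟩ := hval t
  exact ⟨c * c'⁻¹, by rw [map_mul, map_inv₀, hc, hc', ← hst, mul_inv_cancel_right₀ ht]⟩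

theorem residueDegree_eq_finrank (x : X) :
    letI := (VarDim.resHom f x).toAlgebra
    EGA4loc.residueDegree f x = Module.finrank k₀ (X.residueField x) := by
  letI := (VarDim.resHom f x).toAlgebra
  letI := (f.residueFieldMap x).hom.toAlgebra
  letI := (VarDim.resHom (𝟙 (Spec (CommRingCat.of k₀))) (f x)).toAlgebra
  have : IsScalarTower k₀ ((Spec (CommRingCat.of k₀)).residueField (f x)) (X.residueField x) :=
    IsScalarTower.of_algebraMap_eq fun c => by
      show VarDim.resHom f x c = f.residueFieldMap x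
        ((Spec (CommRingCat.of k₀)).Γevaluation (f x) ((Scheme.ΓSpecIso (CommRingCat.of k₀)).inv c))
      rw [Scheme.Γevaluation_naturality_apply]
      rfl
  have e : k₀ ≃ₗ[k₀] (Spec (CommRingCat.of k₀)).residueField (f x) :=
    LinearEquiv.ofBijective (Algebra.linearMap _ _)
      ⟨RingHom.injective _, surjective_resHom_spec (f x)⟩
  have h := Module.finrank_mul_finrank k₀ ((Spec (CommRingCat.of k₀)).residueField (f x))
    (X.residueField x)
  rw [← e.finrank_eq, Module.finrank_self, one_mul] at h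
  exact h

theorem isClosed_of_finite [LocallyOfFiniteType f] (x : X)
    (h : EGA4loc.residueDegree f x ≠ 0) : IsClosed ({x} : Set X) := by
  rw [VarDim.closedPoint_iff_deg_eq_zero f]
  letI := (VarDim.resHom f x).toAlgebra
  rw [residueDegree_eq_finrank f x] at h
  have : Module.Finite k₀ (X.residueField x) := Module.finite_of_finrank_pos (Nat.pos_of_ne_zero h)
  show Cardinal.toNat (Algebra.trdeg k₀ (X.residueField x)) = 0
  rw [trdeg_eq_zero, map_zero]

variable [Finite k₀] {k : Type u} [Field k] [IsAlgClosed k] [Algebra k₀ k]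

/-- The `k`-points over `x` of the residue field fixed by the `(#k₀)^n`-power map. -/
def PointsOver (x : X) (n : ℕ) : Type u :=
  {φ : X.residueField x →+* k // φ.comp (VarDim.resHom f x) = algebraMap k₀ k ∧
    ∀ a, φ a ^ Nat.card k₀ ^ n = φ a}

theorem pointsOver_dichotomy (x : X) {n : ℕ} (hn : 0 < n) :
    (EGA4loc.residueDegree f x ∣ n → Nat.card (PointsOver f (k := k) x n) = EGA4loc.residueDegree f x) ∧
      (Nonempty (PointsOver f (k := k) x n) → EGA4loc.residueDegree f x ∣ n) := by
  classical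
  have := Fintype.ofFinite k₀
  rw [residueDegree_eq_finrank f x]
  letI := (VarDim.resHom f x).toAlgebra
  constructor
  · intro hdvd
    have hpos : 0 < Module.finrank k₀ (X.residueField x) := Nat.pos_of_ne_zero fun h0 => by
      rw [h0, zero_dvd_iff] at hdvd
      omega
    have : Module.Finite k₀ (X.residueField x) := Module.finite_of_finrank_pos hpos
    have : Finite (X.residueField x) := Module.finite_of_finite k₀
    have := Fintype.ofFinite (X.residueField x)
    obtain ⟨m, hm⟩ := hdvd
    let e : PointsOver f (k := k) x n ≃ (X.residueField x →ₐ[k₀] k) :=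
      { toFun := fun φ => { φ.1 with commutes' := fun c => RingHom.congr_fun φ.2.1 c }
        invFun := fun ψ => ⟨ψ.toRingHom, ψ.comp_algebraMap, fun a => by
          show ψ a ^ _ = ψ a
          rw [← map_pow, hm, pow_mul, Nat.card_eq_fintype_card, ← Module.card_eq_pow_finrank,
            FiniteField.pow_card_pow]⟩
        left_inv := fun φ => rfl
        right_inv := fun ψ => rfl }
    rw [Nat.card_congr e, Nat.card_eq_fintype_card]
    exact AlgHom.card k₀ (X.residueField x) k
  · rintro ⟨φ, hφ, hQ⟩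
    let ψ : X.residueField x →ₐ[k₀] k := { φ with commutes' := fun c => RingHom.congr_fun hφ c }
    have hQ1 : 1 < Nat.card k₀ ^ n := Nat.one_lt_pow hn.ne' Finite.one_lt_card
    let P : Polynomial k := Polynomial.X ^ Nat.card k₀ ^ n - Polynomial.X
    have hP : P ≠ 0 := FiniteField.X_pow_card_sub_X_ne_zero k hQ1
    have : Finite (X.residueField x) := by
      refine Finite.of_injective (fun a => (⟨φ a, Multiset.mem_toFinset.2
        ((Polynomial.mem_roots hP).2 (by
          simp only [P, Polynomial.IsRoot.def, Polynomial.eval_sub, Polynomial.eval_pow, Polynomial.eval_X, hQ a,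
            sub_self]))⟩ : {c // c ∈ P.roots.toFinset})) ?_
      intro a b h
      exact φ.injective (congrArg Subtype.val h)
    have : Module.Finite k₀ (X.residueField x) := Module.Finite.of_finite
    have := Fintype.ofFinite (X.residueField x)
    rw [← FiniteField.orderOf_frobeniusAlgHom k₀ (X.residueField x), orderOf_dvd_iff_pow_eq_one]
    ext a
    rw [AlgHom.coe_pow, FiniteField.coe_frobeniusAlgHom, pow_iterate, AlgHom.one_apply,
      ← Nat.card_eq_fintype_card]
    exact φ.injective (by rw [map_pow]; exact hQ a)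

variable {Y : Scheme.{u}} {π : Y ⟶ X} {g : Y ⟶ Spec (CommRingCat.of k)}

/-- Fixed rational points of the base change are points of `X` with a fixed embedding of the residue
field. -/
def fixedEquiv {F : X ⟶ X} {n : ℕ} (hF : IsPowMap F (Nat.card k₀ ^ n))
    (hpb : IsPullback π g f (Spec.map (CommRingCat.ofHom (algebraMap k₀ k))))
    {G : Y ⟶ Y} (hGπ : G ≫ π = π ≫ F) (hGg : G ≫ g = g) :
    {p : Spec (CommRingCat.of k) ⟶ Y // p ≫ g = 𝟙 _ ∧ p ≫ G = p} ≃
      Σ x : X, PointsOver f (k := k) x n := by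
  have key : ∀ (x : X) (φ : X.residueField x ⟶ CommRingCat.of k),
      ((Spec.map φ ≫ X.fromSpecResidueField x) ≫ f =
          Spec.map (CommRingCat.ofHom (algebraMap k₀ k)) ↔
        φ.hom.comp (VarDim.resHom f x) = algebraMap k₀ k) ∧
      ((Spec.map φ ≫ X.fromSpecResidueField x) ≫ F = Spec.map φ ≫ X.fromSpecResidueField x ↔
        ∀ a, φ.hom a ^ Nat.card k₀ ^ n = φ.hom a) := by
    intro x φ
    constructor
    · rw [Category.assoc, fromSpecResidueField_comp, ← Spec.map_comp, Spec.map_inj]
      exact ⟨fun h => congrArg CommRingCat.Hom.hom h, fun h => CommRingCat.hom_ext h⟩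
    · rw [Category.assoc, ← Scheme.Hom.SpecMap_residueFieldMap_fromSpecResidueField,
        ← Scheme.residueFieldCongr_fromSpecResidueField (hF.base x).symm, ← Spec.map_comp_assoc,
        ← Spec.map_comp_assoc, cancel_mono, Spec.map_inj]
      have hc : ∀ a, ((X.residueFieldCongr (hF.base x).symm).hom ≫ F.residueFieldMap x ≫ φ).hom a =
          φ.hom a ^ Nat.card k₀ ^ n := fun a => by
        show φ.hom (fixEnd F x (hF.base x) a) = _
        rw [fixEnd_of_isPowMap hF, map_pow]
      constructor
      · intro h a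
        rw [← hc a]
        exact congrArg (fun m : X.residueField x ⟶ CommRingCat.of k => CommRingCat.Hom.hom m a) h
      · intro h
        ext a
        exact (hc a).trans (h a)
  let e₁ : {p : Spec (CommRingCat.of k) ⟶ Y // p ≫ g = 𝟙 _ ∧ p ≫ G = p} ≃
      {h : Spec (CommRingCat.of k) ⟶ X //
        h ≫ f = Spec.map (CommRingCat.ofHom (algebraMap k₀ k)) ∧ h ≫ F = h} :=
    { toFun := fun p => ⟨p.1 ≫ π, by rw [Category.assoc, hpb.w, ← Category.assoc, p.2.1, Category.id_comp],
        by rw [Category.assoc, ← hGπ, ← Category.assoc, p.2.2]⟩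
      invFun := fun h => ⟨hpb.lift h.1 (𝟙 _) (by rw [h.2.1, Category.id_comp]), hpb.lift_snd _ _ _, by
        apply hpb.hom_ext
        · rw [Category.assoc, hGπ, hpb.lift_fst_assoc]
          exact h.2.2.trans (hpb.lift_fst _ _ _).symm
        · rw [Category.assoc, hGg]⟩
      left_inv := fun p => Subtype.ext (hpb.hom_ext (hpb.lift_fst _ _ _)
        ((hpb.lift_snd _ _ _).trans p.2.1.symm))
      right_inv := fun h => Subtype.ext (hpb.lift_fst _ _ _) }
  refine e₁.trans ?_
  let E := Scheme.SpecToEquivOfField k X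
  let e₂ : {h : Spec (CommRingCat.of k) ⟶ X //
        h ≫ f = Spec.map (CommRingCat.ofHom (algebraMap k₀ k)) ∧ h ≫ F = h} ≃
      {s : Σ x : X, X.residueField x ⟶ CommRingCat.of k //
        s.2.hom.comp (VarDim.resHom f s.1) = algebraMap k₀ k ∧
          ∀ a, s.2.hom a ^ Nat.card k₀ ^ n = s.2.hom a} :=
    (Equiv.subtypeEquiv E.symm fun s =>
      and_congr (key s.1 s.2).1.symm (key s.1 s.2).2.symm).symm
  refine e₂.trans
    { toFun := fun s => ⟨s.1.1, s.1.2.hom, s.2⟩
      invFun := fun t => ⟨⟨t.1, CommRingCat.ofHom t.2.1⟩, t.2.2⟩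
      left_inv := fun s => rfl
      right_inv := fun t => rfl }

/-- **Fixed points are counted by `nPts`.** -/
theorem card_fixed_eq_nPts [LocallyOfFiniteType f] {F : X ⟶ X} {n : ℕ} (hn : 0 < n)
    (hF : IsPowMap F (Nat.card k₀ ^ n))
    (hpb : IsPullback π g f (Spec.map (CommRingCat.ofHom (algebraMap k₀ k))))
    {G : Y ⟶ Y} (hGπ : G ≫ π = π ≫ F) (hGg : G ≫ g = g)
    [Finite {p : Spec (CommRingCat.of k) ⟶ Y // p ≫ g = 𝟙 _ ∧ p ≫ G = p}] :
    Nat.card {p : Spec (CommRingCat.of k) ⟶ Y // p ≫ g = 𝟙 _ ∧ p ≫ G = p} = Zeta.nPts f n := by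
  classical
  let S := {x : X // EGA4loc.residueDegree f x ∣ n}
  have hfinσ : Finite (Σ x : X, PointsOver f (k := k) x n) :=
    Finite.of_equiv _ (fixedEquiv f hF hpb hGπ hGg)
  rw [Nat.card_congr (fixedEquiv f hF hpb hGπ hGg)]
  have e : (Σ x : X, PointsOver f (k := k) x n) ≃ Σ x : S, PointsOver f (k := k) x.1 n :=
    (Equiv.sigmaSubtypeEquivOfSubset _ _ fun x φ => (pointsOver_dichotomy f x hn).2 ⟨φ⟩).symm
  have : Finite (Σ x : S, PointsOver f (k := k) x.1 n) := Finite.of_equiv _ e
  have hne : ∀ x : S, Nonempty (PointsOver f (k := k) x.1 n) := fun x =>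
    (Nat.card_pos_iff.1 (by
      rw [(pointsOver_dichotomy f x.1 hn).1 x.2]
      exact Nat.pos_of_ne_zero fun h0 => by
        have h := x.2
        rw [h0, zero_dvd_iff] at h
        omega)).1
  have hSfin : Finite S := Finite.of_surjective (fun t : Σ x : S, PointsOver f (k := k) x.1 n => t.1)
    fun x => ⟨⟨x, (hne x).some⟩, rfl⟩
  have := Fintype.ofFinite S
  have hfib : ∀ x : S, Finite (PointsOver f (k := k) x.1 n) := fun x =>
    Finite.of_injective (fun φ => (⟨x, φ⟩ : Σ x : S, PointsOver f (k := k) x.1 n))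
      fun _ _ h => eq_of_heq (Sigma.mk.inj h).2
  rw [Nat.card_congr e, Nat.card_sigma,
    Finset.sum_congr rfl fun x _ => (pointsOver_dichotomy f x.1 hn).1 x.2, Zeta.nPts,
    ← Finset.sum_fiberwise_of_maps_to (g := fun x : S => EGA4loc.residueDegree f x.1)
      (t := n.divisors) fun x _ => Nat.mem_divisors.2 ⟨x.2, hn.ne'⟩]
  refine Finset.sum_congr rfl fun e he => ?_
  rw [Finset.sum_congr rfl (g := fun _ => e) fun x hx => (Finset.mem_filter.1 hx).2,
    Finset.sum_const, smul_eq_mul, mul_comm]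
  congr 1
  rw [Zeta.degCount, ← Fintype.card_subtype, ← Nat.card_eq_fintype_card]
  refine Nat.card_congr
    { toFun := fun x => ⟨x.1.1, isClosed_of_finite f _ (by
        rw [x.2]; exact (Nat.pos_of_mem_divisors he).ne'), x.2⟩
      invFun := fun x => ⟨⟨x.1, by rw [x.2.2]; exact Nat.dvd_of_mem_divisors he⟩, x.2.2⟩
      left_inv := fun x => rfl
      right_inv := fun x => rfl }

end

end Groth.Agent.WeilLib
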