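import Mathlib.LinearAlgebra.Matrix.Charpoly.Coeff
import Mathlib.LinearAlgebra.Charpoly.ToMatrix
import Mathlib.LinearAlgebra.Determinant
import Mathlib.LinearAlgebra.Dual.Basis
import Mathlib.LinearAlgebra.PerfectPairing.Basic
import Mathlib.Tactic.LinearCombination

/-!
# Endomorphisms scaling a perfect pairing
-/

universe u v w

open Polynomial Matrix

namespace Groth.Agent.WeilLib

noncomputable section

variable {K : Type u} [Field K] {V : Type v} {W : Type w} [AddCommGroup V] [Module K V]
  [FiniteDimensional K V] [AddCommGroup W] [Module K W] [FiniteDimensional K W]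
variable (B : V →ₗ[K] W →ₗ[K] K) [B.IsPerfPair]

/-- The basis dual to a basis under a perfect pairing. -/
def pairBasis {ι : Type*} [Fintype ι] [DecidableEq ι] (b : Module.Basis ι K V) : Module.Basis ι K W :=
  b.dualBasis.map B.flip.toPerfPair.symm

theorem pairing_pairBasis {ι : Type*} [Fintype ι] [DecidableEq ι] (b : Module.Basis ι K V) (v : V)
    (i : ι) : B v (pairBasis B b i) = b.repr v i := by
  rw [pairBasis, Module.Basis.map_apply, LinearMap.apply_toPerfPair_flip,
    Module.Basis.dualBasis_apply]

theorem pairing_eq_sum {ι : Type*} [Fintype ι] [DecidableEq ι] (b : Module.Basis ι K V) (v : V)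
    (w : W) : B v w = ∑ i, b.repr v i * (pairBasis B b).repr w i := by
  conv_lhs => rw [← (pairBasis B b).sum_repr w]
  rw [map_sum]
  exact Finset.sum_congr rfl fun i _ => by
    rw [map_smul, pairing_pairBasis, smul_eq_mul, mul_comm]

variable (F : V →ₗ[K] V) (G : W →ₗ[K] W) (c : K)

theorem transpose_mul_eq_scalar (h : ∀ v w, B (F v) (G w) = c * B v w) {ι : Type*} [Fintype ι]
    [DecidableEq ι] (b : Module.Basis ι K V) :
    (LinearMap.toMatrix b b F)ᵀ * LinearMap.toMatrix (pairBasis B b) (pairBasis B b) G =
      c • (1 : Matrix ι ι K) := by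
  ext i j
  have := h (b i) (pairBasis B b j)
  rw [pairing_eq_sum B b, pairing_pairBasis, Module.Basis.repr_self, Finsupp.single_apply] at this
  simp only [Matrix.mul_apply, Matrix.transpose_apply, LinearMap.toMatrix_apply, Matrix.smul_apply,
    Matrix.one_apply, smul_eq_mul]
  exact this

include B in
theorem finrank_eq_of_pairing : Module.finrank K W = Module.finrank K V := by
  classical
  rw [Module.finrank_eq_card_basis (pairBasis B (Module.finBasis K V)), Fintype.card_fin]

theorem det_mul_det (h : ∀ v w, B (F v) (G w) = c * B v w) :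
    LinearMap.det F * LinearMap.det G = c ^ Module.finrank K V := by
  classical
  let b := Module.finBasis K V
  have := congrArg Matrix.det (transpose_mul_eq_scalar B F G c h b)
  rw [Matrix.det_mul, Matrix.det_transpose, LinearMap.det_toMatrix, LinearMap.det_toMatrix,
    Matrix.det_smul, Matrix.det_one, mul_one, Fintype.card_fin] at this
  exact this

theorem det_smul_reverse_charpoly (hc : c ≠ 0) (h : ∀ v w, B (F v) (G w) = c * B v w) :
    LinearMap.det F • G.charpoly.reverse =
      ((-1) ^ Module.finrank K W * c ^ Module.finrank K W) • (c⁻¹ • F).charpoly := by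
  classical
  rw [finrank_eq_of_pairing B]
  let b := Module.finBasis K V
  set MF := LinearMap.toMatrix b b F
  set MG := LinearMap.toMatrix (pairBasis B b) (pairBasis B b) G with hMG
  have hrel : MFᵀ * MG = c • (1 : Matrix _ _ K) := transpose_mul_eq_scalar B F G c h b
  have hinv : (c⁻¹ • MFᵀ) * MG = 1 := by
    rw [smul_mul_assoc, hrel, smul_smul, inv_mul_cancel₀ hc, one_smul]
  have hu : IsUnit MG := (Units.mkOfMulEqOne _ _ (mul_eq_one_comm.1 hinv)).isUnit
  have hF : LinearMap.det F * MG.det = c ^ Module.finrank K V := by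
    rw [hMG, LinearMap.det_toMatrix]
    exact det_mul_det B F G c h
  have hdet : MG.det ≠ 0 := fun h0 => by
    rw [h0, mul_zero] at hF
    exact pow_ne_zero _ hc hF.symm
  have hrev : G.charpoly.reverse = MG.charpolyRev := by
    rw [← LinearMap.charpoly_toMatrix G (pairBasis B b), Matrix.reverse_charpoly]
  have hch : (c⁻¹ • F).charpoly = (-1) ^ Module.finrank K V * C MG.det⁻¹ * MG.charpolyRev := by
    rw [← LinearMap.charpoly_toMatrix (c⁻¹ • F) b, map_smul, ← Matrix.charpoly_transpose,
      Matrix.transpose_smul, ← Matrix.inv_eq_left_inv hinv, Matrix.charpoly_inv _ hu,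
      Fintype.card_fin, Ring.inverse_eq_inv']
  rw [hrev, hch, smul_eq_C_mul, smul_eq_C_mul, map_mul C, map_pow C, map_neg C, map_one C]
  have h2 : ((-1 : K[X]) ^ Module.finrank K V) * (-1) ^ Module.finrank K V = 1 := by
    rw [← mul_pow, neg_one_mul, neg_neg, one_pow]
  have h3 : C (LinearMap.det F) = C (c ^ Module.finrank K V) * C MG.det⁻¹ := by
    rw [← C_mul, ← hF, mul_inv_cancel_right₀ hdet]
  rw [h3, map_pow C]
  linear_combination (-(C c ^ Module.finrank K V * C MG.det⁻¹ * MG.charpolyRev)) * h2

theorem charpoly_comp_C_mul_X (φ : V →ₗ[K] V) {c : K} (hc : c ≠ 0) :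
    φ.charpoly.comp (C c * X) = c ^ Module.finrank K V • (c⁻¹ • φ).charpoly := by
  classical
  let b := Module.finBasis K V
  rw [← LinearMap.charpoly_toMatrix φ b, ← LinearMap.charpoly_toMatrix (c⁻¹ • φ) b, map_smul,
    Matrix.charpoly, Matrix.charpoly]
  show (compRingHom (C c * X)) (Matrix.det (Matrix.charmatrix _)) = _
  rw [RingHom.map_det, smul_eq_C_mul, map_pow C]
  refine Eq.trans (congrArg Matrix.det ?_) ((Matrix.det_smul _ _).trans (by rw [Fintype.card_fin]))
  ext i j : 2
  simp only [RingHom.mapMatrix_apply, Matrix.map_apply, Matrix.smul_apply, smul_eq_mul,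
    Matrix.charmatrix_apply, Matrix.diagonal_apply]
  split_ifs <;>
    simp only [Polynomial.coe_compRingHom_apply, Polynomial.sub_comp, Polynomial.X_comp,
      Polynomial.C_comp, Polynomial.zero_comp, Polynomial.neg_comp, zero_sub, mul_sub, mul_neg, ← map_mul C,
      mul_inv_cancel_left₀ hc]

/-- An alternating perfect pairing lives on an even-dimensional space. -/
theorem even_finrank_of_skew (hK : (2 : K) ≠ 0) {U : Type v} [AddCommGroup U] [Module K U]
    [FiniteDimensional K U] (B : U →ₗ[K] U →ₗ[K] K) [B.IsPerfPair] (h : ∀ x y, B x y = - B y x) :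
    Even (Module.finrank K U) := by
  classical
  let b := Module.finBasis K U
  set M := LinearMap.toMatrix b b.dualBasis B.toPerfPair.toLinearMap
  have hM : ∀ i j, M i j = B (b j) (b i) := fun i j => by
    simp only [M]
    rw [LinearMap.toMatrix_apply, Module.Basis.dualBasis_repr]
    rfl
  have hu : M.det ≠ 0 := (B.toPerfPair.isUnit_det b b.dualBasis).ne_zero
  have hskew : Mᵀ = -M := by
    ext i j
    rw [Matrix.transpose_apply, Matrix.neg_apply, hM, hM, h]
  by_contra hodd
  rw [Nat.not_even_iff_odd] at hodd
  have := congrArg Matrix.det hskew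
  rw [Matrix.det_transpose, Matrix.det_neg, Fintype.card_fin, hodd.neg_one_pow, neg_one_mul] at this
  exact hu (mul_left_cancel₀ hK (by rw [mul_zero, two_mul]; linear_combination this))

end

end Groth.Agent.WeilLib
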