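import Groth.Agent.WeilLib.Geometry
import Groth.Agent.WeilLib.Cycles
import Groth.Agent.WeilLib.PointCount
import Mathlib.AlgebraicGeometry.Noetherian

/-!
# Fixed points of a lift of a power map: finiteness, transversality, the Lefschetz count
-/

universe u v

open AlgebraicGeometry CategoryTheory Limits

namespace Groth.Agent.WeilLib

open WeilCoh

noncomputable section

instance isSeparated_projSpace_toSpec (n : ℕ) (R : Type u) [CommRing R] :
    IsSeparated (CohB1.ProjSpace.toSpec n R) := by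
  have h1 : IsSeparated (Proj.toSpecZero (CohB1.polyGrading n R)) := inferInstance
  have h2 : IsSeparated (Spec.map (CommRingCat.ofHom (algebraMap R (CohB1.polyGrading n R 0)))) :=
    inferInstance
  exact MorphismProperty.comp_mem @IsSeparated (Proj.toSpecZero (CohB1.polyGrading n R))
    (Spec.map (CommRingCat.ofHom (algebraMap R (CohB1.polyGrading n R 0)))) h1 h2

instance isSeparated_projSpaceOver_toBase (n : ℕ) (S : Scheme.{u}) :
    IsSeparated (CohB1.ProjSpaceOver.toBase n S) :=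
  (inferInstance : IsSeparated (pullback.snd (CohB1.ProjSpace.toSpec n (ULift.{u} ℤ))
    (specULiftZIsTerminal.from S)))

theorem appLE_congr_hom {A B : Scheme.{u}} {m m' : A ⟶ B} (h : m = m') (U : B.Opens) (V : A.Opens)
    (e : V ≤ m ⁻¹ᵁ U) (e' : V ≤ m' ⁻¹ᵁ U) : m.appLE U V e = m'.appLE U V e' := by
  subst h; rfl

/-- If two morphisms with a common retraction agree at a point then they agree on its residue
field. -/
theorem fromSpecResidueField_comp_eq {A B : Scheme.{u}} {j d : A ⟶ B} {p : B ⟶ A}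
    (hjp : j ≫ p = 𝟙 A) (hdp : d ≫ p = 𝟙 A) (w : A) (h : j w = d w) :
    A.fromSpecResidueField w ≫ j = A.fromSpecResidueField w ≫ d := by
  have hx : A.fromSpecResidueField w ≫ j =
      Spec.map ((B.residueFieldCongr h.symm).hom ≫ j.residueFieldMap w) ≫
        B.fromSpecResidueField (d w) := by
    rw [Spec.map_comp, Category.assoc, Scheme.residueFieldCongr_fromSpecResidueField,
      Scheme.Hom.SpecMap_residueFieldMap_fromSpecResidueField]
  have hy : A.fromSpecResidueField w ≫ d =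
      Spec.map (d.residueFieldMap w) ≫ B.fromSpecResidueField (d w) :=
    (Scheme.Hom.SpecMap_residueFieldMap_fromSpecResidueField d w).symm
  rw [hx, hy]
  set ψ := (B.residueFieldCongr h.symm).hom ≫ j.residueFieldMap w
  have key : p.residueFieldMap (d w) ≫ ψ = p.residueFieldMap (d w) ≫ d.residueFieldMap w := by
    apply Spec.map_injective
    rw [← cancel_mono (A.fromSpecResidueField (p (d w)))]
    simp only [Spec.map_comp, Category.assoc,
      Scheme.Hom.SpecMap_residueFieldMap_fromSpecResidueField]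
    rw [← Category.assoc, ← hx, ← Category.assoc, ← hy, Category.assoc, Category.assoc, hjp, hdp]
  have hsurj : Function.Surjective (p.residueFieldMap (d w)) := by
    intro b
    have h1 : Function.Bijective ((d ≫ p).residueFieldMap w) := bijective_residueFieldMap_id hdp w
    rw [Scheme.residueFieldMap_comp] at h1
    obtain ⟨a, ha⟩ := h1.2 (d.residueFieldMap w b)
    exact ⟨a, (d.residueFieldMap w).hom.injective ha⟩
  have : Epi (p.residueFieldMap (d w)) := ConcreteCategory.epi_of_surjective _ hsurj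
  rw [(cancel_epi _).1 key]

theorem fixEnd_eq_self {A : Scheme.{u}} {G : A ⟶ A} (w : A) (hw : G w = w)
    (h : A.fromSpecResidueField w ≫ G = A.fromSpecResidueField w) (a : A.residueField w) :
    fixEnd G w hw a = a := by
  rw [← Scheme.Hom.SpecMap_residueFieldMap_fromSpecResidueField,
    ← Scheme.residueFieldCongr_fromSpecResidueField hw.symm, ← Spec.map_comp_assoc] at h
  have h' := Spec.map_injective
    ((cancel_mono (A.fromSpecResidueField w)).1 (h.trans (by rw [Spec.map_id, Category.id_comp]) :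
      Spec.map ((A.residueFieldCongr hw.symm).hom ≫ G.residueFieldMap w) ≫
        A.fromSpecResidueField w = Spec.map (𝟙 _) ≫ A.fromSpecResidueField w))
  exact congrArg (fun m : A.residueField w ⟶ A.residueField w => CommRingCat.Hom.hom m a) h'

variable {k : Type u} [Field k] [IsAlgClosed k]

instance isSeparated_hom (X : Var k) : IsSeparated X.obj.hom := by
  obtain ⟨n, i, hi, hi'⟩ := X.property.2.1
  rw [← hi']
  infer_instance

instance isLocallyNoetherian_var (X : Var k) : IsLocallyNoetherian X.obj.left :=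
  LocallyOfFiniteType.isLocallyNoetherian X.obj.hom

instance noetherianSpace_var (X : Var k) : TopologicalSpace.NoetherianSpace ↥X.obj.left :=
  have : IsNoetherian X.obj.left := { }
  inferInstance

theorem finite_of_isClosed_points (X : Var k) {Z : Set ↥X.obj.left} (hZ : IsClosed Z)
    (h : ∀ w ∈ Z, IsClosed ({w} : Set ↥X.obj.left)) : Z.Finite := by
  obtain ⟨S, hS, hcl, hirr, rfl⟩ :=
    TopologicalSpace.NoetherianSpace.exists_finite_set_isClosed_irreducible hZ
  refine hS.sUnion fun t ht => Set.Subsingleton.finite ?_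
  have hgen := (hirr t ht).isGenericPoint_genericPoint_closure
  rw [(hcl t ht).closure_eq] at hgen
  have : t = {(hirr t ht).genericPoint} := by
    have h2 := hgen.def
    rw [(h _ (Set.mem_sUnion_of_mem hgen.mem ht)).closure_eq] at h2
    exact h2.symm
  rw [this]
  exact Set.subsingleton_singleton

section Lefschetz

variable {k₀ : Type u} [Field k₀] [Algebra k₀ k]
variable {X : Scheme.{u}} {f : X ⟶ Spec (CommRingCat.of k₀)}
variable {Xb Pb : Var k} {π : Xb.obj.left ⟶ X} {p q : Pb ⟶ Xb}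
variable {G : Xb ⟶ Xb} {Q : ℕ}

theorem exists_sections (hP : IsProd p q) (G : Xb ⟶ Xb) :
    ∃ j : Xb ⟶ Pb, j ≫ p = 𝟙 Xb ∧ j ≫ q = G := by
  refine ⟨ObjectProperty.homMk (Over.homMk (hP.lift (𝟙 _) (sm G) (by rw [Category.id_comp, over_w]))
    (by rw [← over_w p, ← Category.assoc, hP.lift_fst, Category.id_comp])), ?_, ?_⟩
  · ext1; ext1; exact hP.lift_fst _ _ _
  · ext1; ext1; exact hP.lift_snd _ _ _

theorem sm_comp {A B C : Var k} {a : A ⟶ B} {b : B ⟶ C} {c : A ⟶ C} (h : a ≫ b = c) :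
    sm a ≫ sm b = sm c := by
  subst h; rfl

variable {j d : Xb ⟶ Pb}

theorem range_section (hP : IsProd p q) (hdp : d ≫ p = 𝟙 Xb) :
    closure ({sm d (gen Xb)} : Set ↥Pb.obj.left) = Set.range (sm d) := by
  have : IsSeparated (sm p) := MorphismProperty.of_isPullback hP.flip (isSeparated_hom Xb)
  have : IsClosedImmersion (sm d ≫ sm p) := by rw [sm_section hdp]; infer_instance
  have : IsClosedImmersion (sm d) := IsClosedImmersion.of_comp (sm d) (sm p)
  refine subset_antisymm (closure_minimal (Set.singleton_subset_iff.2 ⟨_, rfl⟩)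
    (sm d).isClosedEmbedding.isClosed_range) ?_
  rintro _ ⟨x, rfl⟩
  exact specializes_iff_mem_closure.1 ((genericPoint_specializes x).map (sm d).continuous)

theorem eq_of_mem (hP : IsProd p q) (hjp : j ≫ p = 𝟙 Xb) (hjq : j ≫ q = G) (hdp : d ≫ p = 𝟙 Xb)
    (hdq : d ≫ q = 𝟙 Xb) {w : ↥Xb.obj.left}
    (hw : w ∈ (sm j) ⁻¹' closure ({sm d (gen Xb)} : Set ↥Pb.obj.left)) :
    sm G w = w ∧ Xb.obj.left.fromSpecResidueField w ≫ sm G = Xb.obj.left.fromSpecResidueField w := by
  rw [range_section hP hdp] at hw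
  obtain ⟨y, hy⟩ := hw
  have hjp' := congrArg (fun m : Xb.obj.left ⟶ Xb.obj.left => m w) (sm_section hjp)
  have hdp' := congrArg (fun m : Xb.obj.left ⟶ Xb.obj.left => m y) (sm_section hdp)
  have hyw : y = w := by
    have : sm p (sm d y) = sm p (sm j w) := by rw [hy]
    exact hdp'.symm.trans (this.trans hjp')
  rw [hyw] at hy
  have h := fromSpecResidueField_comp_eq (sm_section hjp) (sm_section hdp) w hy.symm
  have hx : Xb.obj.left.fromSpecResidueField w ≫ sm G = Xb.obj.left.fromSpecResidueField w := by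
    rw [← sm_comp hjq, ← Category.assoc, h, Category.assoc, sm_comp hdq]
    exact Category.comp_id _
  refine ⟨?_, hx⟩
  have hjq' := congrArg (fun m : Xb.obj.left ⟶ Xb.obj.left => m w) (sm_comp hjq)
  have hdq' := congrArg (fun m : Xb.obj.left ⟶ Xb.obj.left => m w) (sm_comp hdq)
  rw [← hjq']
  show sm q (sm j w) = w
  rw [← hy]
  exact hdq'

theorem mem_of_isClosed_fixed (hP : IsProd p q) (hjp : j ≫ p = 𝟙 Xb) (hjq : j ≫ q = G)
    (hdp : d ≫ p = 𝟙 Xb) (hdq : d ≫ q = 𝟙 Xb) {w : ↥Xb.obj.left}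
    (hc : IsClosed ({w} : Set ↥Xb.obj.left)) (hw : sm G w = w) :
    w ∈ (sm j) ⁻¹' closure ({sm d (gen Xb)} : Set ↥Pb.obj.left) := by
  set x := pointOfClosedPoint Xb.obj.hom w hc
  have hx : x ≫ sm G = x := by
    refine ext_of_apply_closedPoint_eq Xb.obj.hom ?_ (pointOfClosedPoint_comp _ _ _) ?_
    · rw [Category.assoc, over_w, pointOfClosedPoint_comp]
    · have e := pointOfClosedPoint_apply Xb.obj.hom w hc (IsLocalRing.closedPoint k)
      exact (congrArg (sm G) e).trans (hw.trans e.symm)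
  have h : x ≫ sm j = x ≫ sm d := by
    apply hP.hom_ext
    · rw [Category.assoc, Category.assoc, sm_section hjp, sm_section hdp]
    · rw [Category.assoc, Category.assoc, sm_comp hjq, sm_comp hdq, hx]
      exact (Category.comp_id _).symm
  have h' := congrArg (fun m : Spec (CommRingCat.of k) ⟶ Pb.obj.left => m (IsLocalRing.closedPoint k)) h
  have h'' : sm j w = sm d w := by
    have e := pointOfClosedPoint_apply Xb.obj.hom w hc (IsLocalRing.closedPoint k)
    exact (congrArg (sm j) e).symm.trans (h'.trans (congrArg (sm d) e))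
  rw [range_section hP hdp]
  exact ⟨w, h''.symm⟩

theorem isClosed_of_mem (hP : IsProd p q) (hjp : j ≫ p = 𝟙 Xb) (hjq : j ≫ q = G)
    (hdp : d ≫ p = 𝟙 Xb) (hdq : d ≫ q = 𝟙 Xb)
    (hpb : IsPullback π Xb.obj.hom f (Spec.map (CommRingCat.ofHom (algebraMap k₀ k))))
    (hQ : 1 < Q) (hG : IsPowLift π (sm G) Q) {w : ↥Xb.obj.left}
    (hw : w ∈ (sm j) ⁻¹' closure ({sm d (gen Xb)} : Set ↥Pb.obj.left)) :
    IsClosed ({w} : Set ↥Xb.obj.left) ∧ Function.Surjective (VarDim.resHom Xb.obj.hom w) := by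
  obtain ⟨hw1, hw2⟩ := eq_of_mem hP hjp hjq hdp hdq hw
  have hs := surjective_resHom_of_fixed hpb hQ hG w hw1 (fixEnd_eq_self w hw1 hw2)
  refine ⟨?_, hs⟩
  rw [VarDim.closedPoint_iff_deg_eq_zero Xb.obj.hom]
  letI := (VarDim.resHom Xb.obj.hom w).toAlgebra
  have : Algebra.IsAlgebraic k (Xb.obj.left.residueField w) :=
    ⟨fun a => by obtain ⟨c, rfl⟩ := hs a; exact isAlgebraic_algebraMap c⟩
  show Cardinal.toNat (Algebra.trdeg k (Xb.obj.left.residueField w)) = 0
  rw [trdeg_eq_zero, map_zero]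

/-- The graph of a lift of a power map meets the diagonal with multiplicity one. -/
theorem preimMult_eq_one (hP : IsProd p q) (hjp : j ≫ p = 𝟙 Xb) (hjq : j ≫ q = G)
    (hdp : d ≫ p = 𝟙 Xb) (hdq : d ≫ q = 𝟙 Xb)
    (hpb : IsPullback π Xb.obj.hom f (Spec.map (CommRingCat.ofHom (algebraMap k₀ k))))
    (hQ : 1 < Q) (hQ0 : (Q : k) = 0) (hG : IsPowLift π (sm G) Q) (w : ↥Xb.obj.left)
    (hw : sm j w ∈ closure ({sm d (gen Xb)} : Set ↥Pb.obj.left)) :
    preimMult (sm j) (sm d (gen Xb)) w hw = 1 := by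
  obtain ⟨hw1, hw2⟩ := eq_of_mem hP hjp hjq hdp hdq hw
  obtain ⟨-, hres⟩ := isClosed_of_mem hP hjp hjq hdp hdq hpb hQ hG hw
  set I : Ideal (Xb.obj.left.presheaf.stalk w) := Ideal.map ((sm j).stalkMap w).hom
    (RingHom.ker (Cyc.specMap (sm j w) (sm d (gen Xb)) (specializes_iff_mem_closure.mpr hw)))
  have hle : I ≤ IsLocalRing.maximalIdeal _ := by
    refine Ideal.map_le_iff_le_comap.2 fun a ha => ?_
    exact fun hu => IsLocalRing.le_maximalIdeal (RingHom.ker_ne_top _) ha
      (isUnit_of_map_unit ((sm j).stalkMap w).hom a hu)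
  have hge : IsLocalRing.maximalIdeal _ ≤ I := by
    refine maximalIdeal_le_of_fixed hpb hQ0 hG (over_w G) w hw1 (fixEnd_eq_self w hw1 hw2) hres I
      fun V hwV hV a => ?_
    set W : Pb.obj.left.Opens := sm p ⁻¹ᵁ V ⊓ sm q ⁻¹ᵁ V
    have hVW : V ≤ sm j ⁻¹ᵁ W := fun x hx => by
      refine ⟨?_, ?_⟩
      · show sm p (sm j x) ∈ V
        rw [show sm p (sm j x) = x from
          congrArg (fun m : Xb.obj.left ⟶ Xb.obj.left => m x) (sm_section hjp)]
        exact hx
      · show sm q (sm j x) ∈ V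
        rw [show sm q (sm j x) = sm G x from
          congrArg (fun m : Xb.obj.left ⟶ Xb.obj.left => m x) (sm_comp hjq)]
        exact hV hx
    set h := ((sm q).appLE V W inf_le_right).hom a - ((sm p).appLE V W inf_le_left).hom a
    have hzW : sm j w ∈ W := hVW hwV
    have hξW : sm d (gen Xb) ∈ W :=
      (specializes_iff_mem_closure.mpr hw).mem_open W.2 hzW
    have hker : Pb.obj.left.presheaf.germ W (sm j w) hzW h ∈
        RingHom.ker (Cyc.specMap (sm j w) (sm d (gen Xb)) (specializes_iff_mem_closure.mpr hw)) := by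
      rw [RingHom.mem_ker]
      show Pb.obj.left.residue _ (Pb.obj.left.presheaf.stalkSpecializes _
        (Pb.obj.left.presheaf.germ W (sm j w) hzW h)) = 0
      rw [TopCat.Presheaf.germ_stalkSpecializes_apply]
      show Pb.obj.left.evaluation W (sm d (gen Xb)) hξW h = 0
      refine ((sm d).residueFieldMap (gen Xb)).hom.injective ?_
      rw [map_zero]
      refine (residueFieldMap_evaluation (sm d) (le_refl (sm d ⁻¹ᵁ W)) (gen Xb) hξW h).trans ?_
      have e1 := Scheme.Hom.appLE_comp_appLE (sm d) (sm q) V W (sm d ⁻¹ᵁ W) inf_le_right le_rfl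
      have e2 := Scheme.Hom.appLE_comp_appLE (sm d) (sm p) V W (sm d ⁻¹ᵁ W) inf_le_left le_rfl
      rw [appLE_congr_hom ((sm_comp hdq).trans (sm_comp hdp).symm) V (sm d ⁻¹ᵁ W) _
        (fun x hx => (hx : sm d x ∈ W).1), ← e2] at e1
      rw [map_sub ((sm d).appLE W (sm d ⁻¹ᵁ W) le_rfl).hom,
        ← RingHom.comp_apply, ← CommRingCat.hom_comp, ← RingHom.comp_apply, ← CommRingCat.hom_comp,
        e1, sub_self, map_zero]
    have hmem := Ideal.mem_map_of_mem ((sm j).stalkMap w).hom hker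
    have e3 : ((sm j).stalkMap w).hom (Pb.obj.left.presheaf.germ W (sm j w) hzW h) =
        Xb.obj.left.presheaf.germ V w hwV (((sm j).appLE W V hVW).hom h) := by
      show (sm j).stalkMap w (Pb.obj.left.presheaf.germ W (sm j w) hzW h) = _
      rw [Scheme.Hom.germ_stalkMap_apply]
      show _ = Xb.obj.left.presheaf.germ V w hwV
        (Xb.obj.left.presheaf.map (homOfLE hVW).op ((sm j).app W h))
      rw [TopCat.Presheaf.germ_res_apply]
    rw [e3, map_sub ((sm j).appLE W V hVW).hom, ← RingHom.comp_apply, ← CommRingCat.hom_comp,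
      ← RingHom.comp_apply, ← CommRingCat.hom_comp, Scheme.Hom.appLE_comp_appLE,
      Scheme.Hom.appLE_comp_appLE, appLE_congr_hom (sm_comp hjq) V V _ hV,
      appLE_congr_hom (sm_section hjp) V V _ (le_refl _), map_sub] at hmem
    have e4 : ((𝟙 Xb.obj.left : _ ⟶ _).appLE V V (le_refl _)).hom a = a :=
      (isPowMap_id.app V _ a).trans (pow_one a)
    rwa [e4] at hmem
  have hsimp : IsSimpleModule (Xb.obj.left.presheaf.stalk w) (Xb.obj.left.presheaf.stalk w ⧸ I) :=
    isSimpleModule_iff_isCoatom.2 (by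
      rw [le_antisymm hle hge]; exact (IsLocalRing.maximalIdeal.isMaximal _).out)
  show (Module.length (Xb.obj.left.presheaf.stalk w) (Xb.obj.left.presheaf.stalk w ⧸ I)).toNat = 1
  rw [Module.length_eq_one, ENat.toNat_one]

variable {K : Type v} [Field K] [CharZero K] (T : Theory k K) [Finite k₀]

/-- **The Lefschetz count.** -/
theorem alternating_trace_eq_nPts [LocallyOfFiniteType f]
    (hP : IsProd p q)
    (hpb : IsPullback π Xb.obj.hom f (Spec.map (CommRingCat.ofHom (algebraMap k₀ k))))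
    {n : ℕ} (hn : 0 < n) {FX : X ⟶ X} (hFX : IsPowMap FX (Nat.card k₀ ^ n))
    (hG : sm G ≫ π = π ≫ FX) :
    ∑ i ∈ Finset.range (2 * WeilCoh.dim Xb.obj.left + 1),
        (-1 : K) ^ i * LinearMap.trace K ↥(T.gr Xb (i : ℤ)) (T.pullDeg G (i : ℤ)) =
      (Zeta.nPts f n : K) := by
  classical
  have hQ : 1 < Nat.card k₀ ^ n := Nat.one_lt_pow hn.ne' Finite.one_lt_card
  have hQ0 : ((Nat.card k₀ ^ n : ℕ) : k) = 0 := by
    have := Fintype.ofFinite k₀
    rw [Nat.cast_pow, ← map_natCast (algebraMap k₀ k), Nat.card_eq_fintype_card,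
      FiniteField.cast_card_eq_zero, map_zero, zero_pow hn.ne']
  have hlift := isPowLift_of_comm hFX π hG
  obtain ⟨j, hjp, hjq⟩ := exists_sections hP G
  obtain ⟨d, hdp, hdq⟩ := exists_sections hP (𝟙 Xb)
  have hGj := isGraphClass_cl T hjp
  have hGd := isGraphClass_cl T hdp
  have hcd : 2 * (codim Pb.obj.left (sm d (gen Xb)) : ℤ) = 2 * 𝐝 Xb := by rw [codim_graph hP hdp T]
  rw [← tr_graph_mul_diag T hP hjp hjq hdp hdq (by rw [codim_graph hP hjp T]) hcd hGj hGd,
    hGj.tr_mul _ (mem_congr T hcd hGd.mem)]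
  set ξ := sm d (gen Xb)
  set Z : Set ↥Xb.obj.left := (sm j) ⁻¹' closure ({ξ} : Set ↥Pb.obj.left)
  have hclosed : ∀ w ∈ Z, IsClosed ({w} : Set ↥Xb.obj.left) := fun w hw =>
    (isClosed_of_mem hP hjp hjq hdp hdq hpb hQ hlift hw).1
  have hcomp : ∀ w, IsCompPt Z w ↔ w ∈ Z := fun w => ⟨fun h => h.1, fun h => ⟨h, fun w' hw' hs =>
    ((hs.mem_closed (hclosed w' hw') rfl : w ∈ ({w'} : Set ↥Xb.obj.left))).symm⟩⟩
  have hfinZ : Z.Finite :=
    finite_of_isClosed_points Xb (isClosed_closure.preimage (sm j).continuous) hclosed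
  have := hfinZ.to_subtype
  let eZ : {w // IsCompPt Z w} ≃ Z := Equiv.subtypeEquivRight hcomp
  have : Finite {w : ↥Xb.obj.left // IsCompPt Z w} := Finite.of_equiv _ eZ.symm
  have := Fintype.ofFinite {w : ↥Xb.obj.left // IsCompPt Z w}
  rw [T.cl_pull j ξ (fun w hw => by
      rw [(pdim_eq_zero_iff Xb w).2 (hclosed w hw.1), pdim_section hdp, pdim_gen, dim_prod T hP]
      push_cast
      ring) (Or.inr fun w hw => preimMult_eq_one hP hjp hjq hdp hdq hpb hQ hQ0 hlift w hw.1),
    finsum_eq_sum_of_fintype, map_sum]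
  rw [Finset.sum_congr rfl (g := fun _ => (1 : K)) fun w _ => by
    rw [map_smul, preimMult_eq_one hP hjp hjq hdp hdq hpb hQ hQ0 hlift w.1 w.2.1, Nat.cast_one,
      one_smul, tr_cl_of_isClosed T Xb w.1 (hclosed w.1 w.2.1)]]
  rw [Finset.sum_const, nsmul_eq_mul, mul_one, Finset.card_univ, ← Nat.card_eq_fintype_card,
    Nat.card_congr eZ]
  congr 1
  have epts : Z ≃ {x : Spec (CommRingCat.of k) ⟶ Xb.obj.left //
      x ≫ Xb.obj.hom = 𝟙 _ ∧ x ≫ sm G = x} :=
    { toFun := fun w => ⟨pointOfClosedPoint Xb.obj.hom w.1 (hclosed w.1 w.2),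
        pointOfClosedPoint_comp _ _ _, by
          refine ext_of_apply_closedPoint_eq Xb.obj.hom ?_ (pointOfClosedPoint_comp _ _ _) ?_
          · rw [Category.assoc, over_w, pointOfClosedPoint_comp]
          · have e := pointOfClosedPoint_apply Xb.obj.hom w.1 (hclosed w.1 w.2) (IsLocalRing.closedPoint k)
            exact (congrArg (sm G) e).trans
              ((eq_of_mem hP hjp hjq hdp hdq w.2).1.trans e.symm)⟩
      invFun := fun x => ⟨x.1 (IsLocalRing.closedPoint k), mem_of_isClosed_fixed hP hjp hjq hdp hdq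
        (pointEquivClosedPoint Xb.obj.hom ⟨x.1, x.2.1⟩).2
        (congrArg (fun m : Spec (CommRingCat.of k) ⟶ Xb.obj.left => m (IsLocalRing.closedPoint k)) x.2.2)⟩
      left_inv := fun w => Subtype.ext (pointOfClosedPoint_apply _ _ _ _)
      right_inv := fun x => Subtype.ext (ext_of_apply_closedPoint_eq Xb.obj.hom
        (pointOfClosedPoint_comp _ _ _) x.2.1 (pointOfClosedPoint_apply _ _ _ _)) }
  have := Finite.of_equiv _ epts
  rw [Nat.card_congr epts]
  exact card_fixed_eq_nPts f hn hFX hpb hG (over_w G)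

end Lefschetz

end

end Groth.Agent.WeilLib
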