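import Groth.Agent.WeilLib.FrobDegree
import Groth.Agent.WeilLib.PairScale
import Mathlib.FieldTheory.RatFunc.AsPolynomial

/-!
# The functional equation
-/

universe u v

open AlgebraicGeometry CategoryTheory Polynomial

namespace Groth.Agent.WeilLib

open WeilCoh

noncomputable section

section Algebra

theorem sum_sym_eq (d : ℕ) {A : Type*} [AddCommMonoid A] (g : ℕ → A)
    (h : ∀ i, i ≤ 2 * d → g (2 * d - i) = g i) :
    ∑ i ∈ Finset.range (2 * d + 1), g i = (∑ i ∈ Finset.range d, g i + ∑ i ∈ Finset.range d, g i) + g d := by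
  rw [show 2 * d + 1 = d + 1 + d by ring, Finset.sum_range_add, Finset.sum_range_succ,
    add_right_comm]
  congr 2
  rw [← Finset.sum_range_reflect (fun x => g x) d]
  refine Finset.sum_congr rfl fun i hi => ?_
  have := Finset.mem_range.1 hi
  rw [← h (d + 1 + i) (by omega)]
  congr 1
  omega

theorem prod_range_even_odd {M : Type*} [CommGroupWithZero M] (d : ℕ) (g : ℕ → M) :
    (∏ i ∈ Finset.range (2 * d + 1), g i ^ ((-1 : ℤ) ^ i)) =
      (∏ i ∈ Finset.range (d + 1), g (2 * i)) / ∏ i ∈ Finset.range d, g (2 * i + 1) := by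
  induction d with
  | zero => simp
  | succ d ih =>
    rw [show 2 * (d + 1) + 1 = (2 * d + 1) + 1 + 1 by ring, Finset.prod_range_succ,
      Finset.prod_range_succ, ih, Finset.prod_range_succ _ (d + 1),
      Finset.prod_range_succ (fun i => g (2 * i + 1)),
      Odd.neg_one_pow (show Odd (2 * d + 1) from ⟨d, rfl⟩),
      Even.neg_one_pow (show Even (2 * d + 1 + 1) from ⟨d + 1, by ring⟩), zpow_neg_one, zpow_one,
      show 2 * (d + 1) = 2 * d + 1 + 1 by ring]
    simp only [div_eq_mul_inv, mul_inv]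
    generalize g (2 * d + 1 + 1) = A
    generalize g (2 * d + 1) = B
    ac_rfl

variable {K : Type v} [Field K]

theorem reverse_eval_eq (p : Polynomial K) {L : Type*} [Field L] [Algebra K L] {x : L} (hx : x ≠ 0) :
    Polynomial.aeval x p.reverse = x ^ p.natDegree * Polynomial.aeval x⁻¹ p := by
  have := invertibleOfNonzero (inv_ne_zero hx)
  have h : ⅟ (x⁻¹) = x := (invOf_eq_right_inv (inv_mul_cancel₀ hx))
  have h2 := eval₂_reflect_mul_pow (algebraMap K L) x⁻¹ p.natDegree p le_rfl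
  rw [h] at h2
  show eval₂ (algebraMap K L) x p.reverse = _
  rw [Polynomial.reverse, aeval_def, ← h2, mul_comm (x ^ p.natDegree), mul_assoc, inv_pow,
    inv_mul_cancel₀ (pow_ne_zero _ hx), mul_one]

end Algebra

variable {k₀ : Type u} [Field k₀] [Finite k₀] {k : Type u} [Field k] [IsAlgClosed k] [Algebra k₀ k]
variable {K : Type v} [Field K] [CharZero K] (T : Theory k K)
variable {X : Scheme.{u}} {f : X ⟶ Spec (CommRingCat.of k₀)} {Xb : Var k} {π : Xb.obj.left ⟶ X}
variable {FX : X ⟶ X} {F : Xb ⟶ Xb}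

/-- The scaling factor `q ^ dim`. -/
abbrev qd (k₀ : Type u) (K : Type v) [Field K] {k : Type u} [Field k] (Xb : Var k) : K :=
  (Nat.card k₀ : K) ^ WeilCoh.dim Xb.obj.left

theorem qd_ne_zero (Xb : Var k) : qd k₀ K Xb ≠ 0 := by
  refine pow_ne_zero _ (Nat.cast_ne_zero.2 ?_)
  exact (Finite.one_lt_card (α := k₀)).ne_bot

theorem pairing_scale (hFX : IsPowMap FX (Nat.card k₀))
    (hπ : CategoryTheory.IsPullback π Xb.obj.hom f (Spec.map (CommRingCat.ofHom (algebraMap k₀ k))))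
    (hF : sm F ≫ π = π ≫ FX) (i j : ℤ) (h : i + j = 2 * 𝐝 Xb) (a : T.gr Xb i) (b : T.gr Xb j) :
    pairing K (T.gr Xb i) (T.gr Xb j) (T.tr Xb) (T.pullDeg F i a) (T.pullDeg F j b) =
      qd k₀ K Xb * pairing K (T.gr Xb i) (T.gr Xb j) (T.tr Xb) a b :=
  tr_pull_mul_pull T hπ Nat.card_pos (isPowLift_of_comm hFX π hF) h a.2 b.2

theorem det_compl (hFX : IsPowMap FX (Nat.card k₀))
    (hπ : CategoryTheory.IsPullback π Xb.obj.hom f (Spec.map (CommRingCat.ofHom (algebraMap k₀ k))))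
    (hF : sm F ≫ π = π ≫ FX) (i : ℤ) :
    LinearMap.det (T.pullDeg F (2 * 𝐝 Xb - i)) * LinearMap.det (T.pullDeg F i) =
      qd k₀ K Xb ^ Module.finrank K ↥(T.gr Xb i) := by
  have := T.duality Xb i (2 * 𝐝 Xb - i) (by omega)
  rw [mul_comm, det_mul_det _ _ _ _ (pairing_scale T hFX hπ hF i (2 * 𝐝 Xb - i) (by omega))]

theorem charpoly_compl (hFX : IsPowMap FX (Nat.card k₀))
    (hπ : CategoryTheory.IsPullback π Xb.obj.hom f (Spec.map (CommRingCat.ofHom (algebraMap k₀ k))))
    (hF : sm F ≫ π = π ≫ FX) (i : ℤ) :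
    LinearMap.det (T.pullDeg F i) •
        (LinearMap.charpoly (T.pullDeg F (2 * 𝐝 Xb - i))).reverse =
      (-1 : Polynomial K) ^ Module.finrank K ↥(T.gr Xb i) *
        (LinearMap.charpoly (T.pullDeg F i)).comp (Polynomial.C (qd k₀ K Xb) * Polynomial.X) := by
  have := T.duality Xb i (2 * 𝐝 Xb - i) (by omega)
  rw [det_smul_reverse_charpoly _ _ _ _ (qd_ne_zero Xb)
      (pairing_scale T hFX hπ hF i (2 * 𝐝 Xb - i) (by omega)),
    charpoly_comp_C_mul_X _ (qd_ne_zero Xb), ← finrank_gr_compl T Xb i (2 * 𝐝 Xb - i) (by omega),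
    mul_smul, smul_eq_C_mul, smul_eq_C_mul, map_pow C, map_pow C, map_neg C,
    map_one C]

theorem det_ne_zero (hFX : IsPowMap FX (Nat.card k₀))
    (hπ : CategoryTheory.IsPullback π Xb.obj.hom f (Spec.map (CommRingCat.ofHom (algebraMap k₀ k))))
    (hF : sm F ≫ π = π ≫ FX) (i : ℤ) : LinearMap.det (T.pullDeg F i) ≠ 0 := fun h0 => by
  have h := det_compl T hFX hπ hF i
  rw [h0, mul_zero] at h
  exact pow_ne_zero _ (qd_ne_zero Xb) h.symm

/-- The reversed characteristic polynomial in complementary degrees. -/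
theorem aeval_compl (hFX : IsPowMap FX (Nat.card k₀))
    (hπ : CategoryTheory.IsPullback π Xb.obj.hom f (Spec.map (CommRingCat.ofHom (algebraMap k₀ k))))
    (hF : sm F ≫ π = π ≫ FX) (i : ℤ) :
    Polynomial.aeval ((RatFunc.X : RatFunc K)⁻¹ * RatFunc.C (qd k₀ K Xb)⁻¹)
        (LinearMap.charpoly (T.pullDeg F (2 * 𝐝 Xb - i))).reverse =
      RatFunc.C ((-1) ^ Module.finrank K ↥(T.gr Xb i) * (LinearMap.det (T.pullDeg F i))⁻¹) *
        ((RatFunc.X : RatFunc K) ^ Module.finrank K ↥(T.gr Xb i))⁻¹ *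
        algebraMap (Polynomial K) (RatFunc K) (LinearMap.charpoly (T.pullDeg F i)).reverse := by
  set x : RatFunc K := (RatFunc.X : RatFunc K)⁻¹ * RatFunc.C (qd k₀ K Xb)⁻¹
  have hC : ∀ a : K, algebraMap K (RatFunc K) a = RatFunc.C a := fun a => rfl
  have hX : (RatFunc.X : RatFunc K) ≠ 0 := RatFunc.X_ne_zero
  have h := congrArg (Polynomial.aeval x) (charpoly_compl T hFX hπ hF i)
  have hy : Polynomial.aeval x (Polynomial.C (qd k₀ K Xb) * Polynomial.X) = (RatFunc.X : RatFunc K)⁻¹ := by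
    rw [map_mul (Polynomial.aeval x), Polynomial.aeval_C, Polynomial.aeval_X, hC, mul_left_comm,
      ← map_mul RatFunc.C, mul_inv_cancel₀ (qd_ne_zero Xb), map_one, mul_one]
  rw [map_smul, Algebra.smul_def, hC, map_mul (Polynomial.aeval x), map_pow, map_neg, map_one,
    Polynomial.aeval_comp, hy] at h
  have hdet : RatFunc.C (LinearMap.det (T.pullDeg F i)) ≠ 0 :=
    (_root_.map_ne_zero _).2 (det_ne_zero T hFX hπ hF i)
  have hrev : algebraMap (Polynomial K) (RatFunc K) (LinearMap.charpoly (T.pullDeg F i)).reverse =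
      (RatFunc.X : RatFunc K) ^ Module.finrank K ↥(T.gr Xb i) *
        Polynomial.aeval (RatFunc.X : RatFunc K)⁻¹ (LinearMap.charpoly (T.pullDeg F i)) := by
    rw [← LinearMap.charpoly_natDegree (T.pullDeg F i), ← reverse_eval_eq _ hX, ← RatFunc.algebraMap_X,
      Polynomial.aeval_algebraMap_apply, Polynomial.aeval_X_left_apply]
  rw [hrev, map_mul RatFunc.C, map_pow, map_neg, map_one, map_inv₀]
  field_simp at h ⊢
  linear_combination h

/-- The Euler characteristic, as a function of the degrees. -/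
theorem even_dim_mul_euler (X : Var k) :
    Even ((WeilCoh.dim X.obj.left : ℤ) * ∑ i ∈ Finset.range (2 * WeilCoh.dim X.obj.left + 1),
      (-1 : ℤ) ^ i * (Module.finrank K ↥(T.gr X (i : ℤ)) : ℤ)) := by
  set d := WeilCoh.dim X.obj.left
  rw [sum_sym_eq d]
  · rcases Nat.even_or_odd d with hd | hd
    · exact (Int.even_coe_nat _ |>.2 hd).mul_right _
    · refine Even.mul_left (Even.add ⟨_, rfl⟩ ((Int.even_coe_nat _).2 ?_ |>.mul_left _)) _
      have hdd : (d : ℤ) + d = 2 * 𝐝 X := by ring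
      have := T.duality X d d hdd
      refine even_finrank_of_skew two_ne_zero (pairing K (T.gr X d) (T.gr X d) (T.tr X)) fun x y => ?_
      show T.tr X ((x : T.H X) * y) = - T.tr X ((y : T.H X) * x)
      rw [tr_comm T x.2 y.2, Odd.neg_one_zpow (by
        have : Odd (d : ℤ) := (Int.odd_coe_nat d).2 hd
        exact this.mul this), neg_one_mul]
  · intro i hi
    have h : ((2 * d - i : ℕ) : ℤ) = 2 * 𝐝 X - i := by rw [Nat.cast_sub hi]; push_cast; ring
    rw [h, finrank_gr_compl T X (2 * 𝐝 X - i) i (by omega)]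
    congr 1
    exact neg_one_pow_congr (by rw [Nat.even_sub hi]; simp)

/-- **The functional equation.** -/
theorem functional_equation (hFX : IsPowMap FX (Nat.card k₀))
    (hπ : CategoryTheory.IsPullback π Xb.obj.hom f (Spec.map (CommRingCat.ofHom (algebraMap k₀ k))))
    (hF : sm F ≫ π = π ≫ FX) :
    ∃ ε : K, (ε = 1 ∨ ε = -1) ∧
      Polynomial.aeval ((RatFunc.X : RatFunc K)⁻¹ * RatFunc.C ((Nat.card k₀ : K) ^ WeilCoh.dim Xb.obj.left)⁻¹)
          (∏ i ∈ Finset.range (WeilCoh.dim Xb.obj.left),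
            (LinearMap.charpoly (T.pullDeg F ((2 * i + 1 : ℕ) : ℤ))).reverse) /
        Polynomial.aeval ((RatFunc.X : RatFunc K)⁻¹ * RatFunc.C ((Nat.card k₀ : K) ^ WeilCoh.dim Xb.obj.left)⁻¹)
          (∏ i ∈ Finset.range (WeilCoh.dim Xb.obj.left + 1),
            (LinearMap.charpoly (T.pullDeg F ((2 * i : ℕ) : ℤ))).reverse) =
      RatFunc.C ε * RatFunc.C (Nat.card k₀ : K) ^ ((WeilCoh.dim Xb.obj.left : ℤ) * (∑ i ∈ Finset.range (2 * WeilCoh.dim Xb.obj.left + 1), (-1 : ℤ) ^ i * (Module.finrank K ↥(T.gr Xb (i : ℤ)) : ℤ)) / 2) *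
        (RatFunc.X : RatFunc K) ^ (∑ i ∈ Finset.range (2 * WeilCoh.dim Xb.obj.left + 1), (-1 : ℤ) ^ i * (Module.finrank K ↥(T.gr Xb (i : ℤ)) : ℤ)) *
        (algebraMap (Polynomial K) (RatFunc K)
          (∏ i ∈ Finset.range (WeilCoh.dim Xb.obj.left),
            (LinearMap.charpoly (T.pullDeg F ((2 * i + 1 : ℕ) : ℤ))).reverse) /
         algebraMap (Polynomial K) (RatFunc K)
          (∏ i ∈ Finset.range (WeilCoh.dim Xb.obj.left + 1),
            (LinearMap.charpoly (T.pullDeg F ((2 * i : ℕ) : ℤ))).reverse)) := by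
  set d := WeilCoh.dim Xb.obj.left
  set χ : ℤ := ∑ i ∈ Finset.range (2 * d + 1), (-1 : ℤ) ^ i * (Module.finrank K ↥(T.gr Xb (i : ℤ)) : ℤ)
  set x : RatFunc K := (RatFunc.X : RatFunc K)⁻¹ * RatFunc.C ((Nat.card k₀ : K) ^ d)⁻¹
  let R : ℕ → Polynomial K := fun i => (LinearMap.charpoly (T.pullDeg F (i : ℤ))).reverse
  let s : ℕ → ℤ := fun i => (-1 : ℤ) ^ i
  let b : ℕ → ℕ := fun i => Module.finrank K ↥(T.gr Xb (i : ℤ))
  let det : ℕ → K := fun i => LinearMap.det (T.pullDeg F (i : ℤ))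
  let a : ℕ → K := fun i => ((-1) ^ b i * (det i)⁻¹) ^ (s i)
  have hdet : ∀ i, det i ≠ 0 := fun i => det_ne_zero T hFX hπ hF _
  have ha : ∀ i, a i ≠ 0 := fun i =>
    zpow_ne_zero _ (mul_ne_zero (pow_ne_zero _ (neg_ne_zero.2 _root_.one_ne_zero)) (inv_ne_zero (hdet i)))
  have hcompl : ∀ i, i ≤ 2 * d →
      ((2 * d - i : ℕ) : ℤ) = 2 * 𝐝 Xb - i := fun i hi => by
    rw [Nat.cast_sub hi]; push_cast; rfl
  have hs : ∀ i, i ≤ 2 * d → s (2 * d - i) = s i := fun i hi =>
    neg_one_pow_congr (by rw [Nat.even_sub hi]; simp)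
  have hval : ∀ i, i ≤ 2 * d → Polynomial.aeval x (R (2 * d - i)) ^ s (2 * d - i) =
      RatFunc.C (a i) * ((RatFunc.X : RatFunc K) ^ (- (s i * b i))) *
        algebraMap (Polynomial K) (RatFunc K) (R i) ^ s i := fun i hi => by
    show Polynomial.aeval x (LinearMap.charpoly (T.pullDeg F ((2 * d - i : ℕ) : ℤ))).reverse ^ s (2 * d - i) = _
    rw [hs i hi, hcompl i hi, aeval_compl T hFX hπ hF, mul_zpow, mul_zpow, ← map_zpow₀ RatFunc.C,
      inv_zpow', ← zpow_natCast (RatFunc.X : RatFunc K), ← zpow_mul, mul_neg,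
      mul_comm (Module.finrank K ↥(T.gr Xb (i : ℤ)) : ℤ)]
  have hprod : (∏ i ∈ Finset.range (2 * d + 1), Polynomial.aeval x (R i) ^ s i) =
      RatFunc.C (∏ i ∈ Finset.range (2 * d + 1), a i) * (RatFunc.X : RatFunc K) ^ (-χ) *
        ∏ i ∈ Finset.range (2 * d + 1), algebraMap (Polynomial K) (RatFunc K) (R i) ^ s i := by
    rw [← Finset.prod_range_reflect]
    rw [Finset.prod_congr rfl (g := fun i => RatFunc.C (a i) * (RatFunc.X : RatFunc K) ^ (- (s i * b i)) *
        algebraMap (Polynomial K) (RatFunc K) (R i) ^ s i) fun i hi => by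
      rw [Nat.add_sub_cancel]
      exact hval i (Nat.lt_succ_iff.1 (Finset.mem_range.1 hi))]
    rw [Finset.prod_mul_distrib, Finset.prod_mul_distrib, map_prod]
    congr 2
    rw [show -χ = ∑ i ∈ Finset.range (2 * d + 1), - (s i * b i) by
      rw [Finset.sum_neg_distrib]]
    induction Finset.range (2 * d + 1) using Finset.induction_on with
    | empty => simp
    | @insert c t hc ih => rw [Finset.prod_insert hc, Finset.sum_insert hc, ih, zpow_add₀ RatFunc.X_ne_zero]
  obtain ⟨e, he⟩ := even_dim_mul_euler T Xb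
  set c0 := ∏ i ∈ Finset.range (2 * d + 1), a i
  have hc0 : c0 * c0 = ((Nat.card k₀ : K) ^ (e + e))⁻¹ := by
    have hrefl : c0 = ∏ i ∈ Finset.range (2 * d + 1), a (2 * d - i) := by
      rw [← Finset.prod_range_reflect]
      exact Finset.prod_congr rfl fun i hi => by
        rw [Nat.add_sub_cancel]
        congr 1
        have := Finset.mem_range.1 hi
        omega
    have hterm : ∀ i ∈ Finset.range (2 * d + 1),
        a i * a (2 * d - i) = (Nat.card k₀ : K) ^ (-((d : ℤ) * (s i * b i))) := by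
      intro i hi
      have hi' := Nat.lt_succ_iff.1 (Finset.mem_range.1 hi)
      have hb : b (2 * d - i) = b i := by
        show Module.finrank K ↥(T.gr Xb ((2 * d - i : ℕ) : ℤ)) = _
        rw [hcompl i hi']
        exact finrank_gr_compl T Xb _ _ (by omega)
      have hdd : det (2 * d - i) * det i = qd k₀ K Xb ^ b i := by
        show LinearMap.det (T.pullDeg F ((2 * d - i : ℕ) : ℤ)) * _ = _
        rw [hcompl i hi']
        exact det_compl T hFX hπ hF _
      show ((-1) ^ b i * (det i)⁻¹) ^ s i * ((-1) ^ b (2 * d - i) * (det (2 * d - i))⁻¹) ^ s (2 * d - i) = _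
      rw [hb, hs i hi', ← mul_zpow, mul_mul_mul_comm, ← mul_pow, neg_one_mul, neg_neg, one_pow,
        one_mul, ← mul_inv, mul_comm (det i), hdd, qd, ← pow_mul, inv_zpow', ← zpow_natCast,
        ← zpow_mul]
      congr 1
      push_cast
      ring
    rw [show c0 * c0 = ∏ i ∈ Finset.range (2 * d + 1), a i * a (2 * d - i) by
      rw [Finset.prod_mul_distrib, ← hrefl], Finset.prod_congr rfl hterm, ← he, ← zpow_neg,
      Finset.mul_sum, ← Finset.sum_neg_distrib]
    have hq : (Nat.card k₀ : K) ≠ 0 := Nat.cast_ne_zero.2 (Finite.one_lt_card (α := k₀)).ne_bot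
    induction Finset.range (2 * d + 1) using Finset.induction_on with
    | empty => simp
    | @insert c t hc ih => rw [Finset.prod_insert hc, Finset.sum_insert hc, ih, zpow_add₀ hq]
  have hqne : (Nat.card k₀ : K) ^ e ≠ 0 :=
    zpow_ne_zero _ (Nat.cast_ne_zero.2 (Finite.one_lt_card (α := k₀)).ne_bot)
  refine ⟨c0⁻¹ * ((Nat.card k₀ : K) ^ e)⁻¹, ?_, ?_⟩
  · refine mul_self_eq_one_iff.1 ?_
    rw [zpow_add₀ (Nat.cast_ne_zero.2 (Finite.one_lt_card (α := k₀)).ne_bot)] at hc0
    rw [mul_mul_mul_comm, ← mul_inv, hc0, inv_inv, ← mul_inv, mul_inv_cancel₀ (mul_ne_zero hqne hqne)]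
  have he2 : (d : ℤ) * χ / 2 = e := by rw [he]; omega
  rw [he2]
  have hL : Polynomial.aeval x (∏ i ∈ Finset.range d, R (2 * i + 1)) /
      Polynomial.aeval x (∏ i ∈ Finset.range (d + 1), R (2 * i)) =
      (∏ i ∈ Finset.range (2 * d + 1), Polynomial.aeval x (R i) ^ s i)⁻¹ := by
    rw [prod_range_even_odd d, inv_div, map_prod, map_prod]
  have hR : algebraMap (Polynomial K) (RatFunc K) (∏ i ∈ Finset.range d, R (2 * i + 1)) /
      algebraMap (Polynomial K) (RatFunc K) (∏ i ∈ Finset.range (d + 1), R (2 * i)) =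
      (∏ i ∈ Finset.range (2 * d + 1), algebraMap (Polynomial K) (RatFunc K) (R i) ^ s i)⁻¹ := by
    rw [prod_range_even_odd d, inv_div, map_prod, map_prod]
  show Polynomial.aeval x (∏ i ∈ Finset.range d, R (2 * i + 1)) /
      Polynomial.aeval x (∏ i ∈ Finset.range (d + 1), R (2 * i)) = RatFunc.C _ * _ * _ *
    (algebraMap (Polynomial K) (RatFunc K) (∏ i ∈ Finset.range d, R (2 * i + 1)) /
      algebraMap (Polynomial K) (RatFunc K) (∏ i ∈ Finset.range (d + 1), R (2 * i)))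
  rw [hL, hR, hprod, mul_inv, mul_inv, zpow_neg, inv_inv, map_mul RatFunc.C, map_inv₀, map_inv₀,
    map_zpow₀, inv_mul_cancel_right₀ (zpow_ne_zero _ ((_root_.map_ne_zero RatFunc.C).2
      (Nat.cast_ne_zero.2 (Finite.one_lt_card (α := k₀)).ne_bot)))]

end

end Groth.Agent.WeilLib
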