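import Groth.Agent.WeilLib.Lefschetz
import Groth.Agent.WeilLib.PairScale

/-!
# Classes on a product as correspondences
-/

universe u v w

open AlgebraicGeometry CategoryTheory TensorProduct

namespace Groth.Agent.WeilLib

open WeilCoh

noncomputable section

variable {k : Type u} [Field k] {P : ObjectProperty (Over (Spec (CommRingCat.of k)))}
variable {K : Type v} [Field K] (T : TheoryOn.{u, v, w} k P K)
variable {X Y Q Q' : P.FullSubcategory} (p : Q ⟶ X) (q : Q ⟶ Y)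

/-- The action `a ↦ q_* (p^* a * φ)` of a class on a product. -/
def corr {m : ℤ} (φ : T.gr Q m) (i : ℤ) : T.gr X i →ₗ[K] T.gr Y (i + m + 2 * 𝐝 Y - 2 * 𝐝 Q) :=
  (T.push q (i + m)) ∘ₗ
    ((LinearMap.mulRight K (φ : T.H Q)).restrict (p := T.gr Q i) (q := T.gr Q (i + m))
      (fun x hx => SetLike.mul_mem_graded hx φ.2)) ∘ₗ (T.pullDeg p i)

theorem corr_spec {m : ℤ} (φ : T.gr Q m) (i : ℤ) (a : T.gr X i) {c : T.H Y}
    (hc : c ∈ T.gr Y (2 * 𝐝 Q - (i + m))) :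
    T.tr Y ((corr T p q φ i a : T.H Y) * c) =
      T.tr Q (T.pull p (a : T.H X) * φ * T.pull q c) :=
  push_spec T q (i + m) _ hc

variable {p q}

/-- A class on a product is determined by its pairing with products. -/
theorem eq_of_prod_pairing (hP : IsProd p q) {m : ℤ} {x y : T.H Q} (hx : x ∈ T.gr Q m)
    (hy : y ∈ T.gr Q m)
    (h : ∀ (i : ℤ) (a : T.H X) (c : T.H Y), a ∈ T.gr X i → c ∈ T.gr Y (2 * 𝐝 Q - (i + m)) →
      T.tr Q (T.pull p a * x * T.pull q c) = T.tr Q (T.pull p a * y * T.pull q c)) : x = y := by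
  refine eq_of_pairing T (j := 2 * 𝐝 Q - m) (by omega) hx hy fun z hz => ?_
  refine prod_ext_deg T hP (T.tr Q ∘ₗ LinearMap.mulLeft K x) (T.tr Q ∘ₗ LinearMap.mulLeft K y)
    (fun i a c ha hc => ?_) hz
  have hc' : c ∈ T.gr Y (2 * 𝐝 Q - (i + m)) := mem_congr T (by omega) hc
  show T.tr Q (x * (T.pull p a * T.pull q c)) = T.tr Q (y * (T.pull p a * T.pull q c))
  rw [← mul_assoc, ← mul_assoc, comm T hx (T.pull_mem p i a ha), comm T hy (T.pull_mem p i a ha),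
    smul_mul_assoc, smul_mul_assoc, map_smul, map_smul, h i a c ha hc']

/-- The dual bases of the cohomology of `X`. -/
def ev (X : P.FullSubcategory) (i : ℕ) :
    Module.Basis (Fin (Module.finrank K (T.gr X (i : ℤ)))) K (T.gr X (i : ℤ)) :=
  Module.finBasis K _

/-- The dual bases of the cohomology of `X`. -/
def dv (X : P.FullSubcategory) (i : ℕ) :
    Module.Basis (Fin (Module.finrank K (T.gr X (i : ℤ)))) K (T.gr X (2 * 𝐝 X - i)) :=
  haveI := T.duality X (i : ℤ) (2 * 𝐝 X - i) (by omega)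
  pairBasis (pairing K (T.gr X (i : ℤ)) (T.gr X (2 * 𝐝 X - i)) (T.tr X)) (ev T X i)

theorem tr_mul_dv (X : P.FullSubcategory) (i : ℕ) (a : T.gr X (i : ℤ))
    (l : Fin (Module.finrank K (T.gr X (i : ℤ)))) :
    T.tr X ((a : T.H X) * (dv T X i l : T.H X)) = (ev T X i).repr a l := by
  have := T.duality X (i : ℤ) (2 * 𝐝 X - i) (by omega)
  exact pairing_pairBasis (pairing K (T.gr X (i : ℤ)) (T.gr X (2 * 𝐝 X - i)) (T.tr X)) (ev T X i) a l

/-- The class with prescribed action. -/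
def ofMaps (p : Q ⟶ X) (q : Q ⟶ Y) {m : ℤ}
    (L : (i : ℤ) → (T.gr X i →ₗ[K] T.gr Y (i + m + 2 * 𝐝 Y - 2 * 𝐝 Q))) : T.H Q :=
  ∑ i ∈ Finset.range (2 * WeilCoh.dim X.obj.left + 1), ∑ l,
    T.pull p (dv T X i l : T.H X) * T.pull q (L (i : ℤ) (ev T X i l) : T.H Y)

theorem ofMaps_mem (hP : IsProd p q) {m : ℤ}
    (L : (i : ℤ) → (T.gr X i →ₗ[K] T.gr Y (i + m + 2 * 𝐝 Y - 2 * 𝐝 Q))) :
    ofMaps T p q L ∈ T.gr Q m := by
  have hd := dim_prod T hP
  exact Submodule.sum_mem _ fun i _ => Submodule.sum_mem _ fun l _ =>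
    mem_congr T (by omega) (prod_mem T p q (dv T X i l).2 (L (i : ℤ) (ev T X i l)).2)

theorem tr_ofMaps (hP : IsProd p q) {m : ℤ}
    (L : (i : ℤ) → (T.gr X i →ₗ[K] T.gr Y (i + m + 2 * 𝐝 Y - 2 * 𝐝 Q))) (s : ℤ) (a : T.gr X s)
    (c : T.H Y) :
    T.tr Q (T.pull p (a : T.H X) * ofMaps T p q L * T.pull q c) = T.tr Y ((L s a : T.H Y) * c) := by
  have key : ∀ (i : ℕ) (l : Fin (Module.finrank K (T.gr X (i : ℤ)))),
      T.tr Q (T.pull p (a : T.H X) *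
        (T.pull p (dv T X i l : T.H X) * T.pull q (L (i : ℤ) (ev T X i l) : T.H Y)) * T.pull q c) =
      T.tr X ((a : T.H X) * (dv T X i l : T.H X)) * T.tr Y ((L (i : ℤ) (ev T X i l) : T.H Y) * c) :=
    fun i l => by
      rw [← mul_assoc, ← map_mul (T.pull p), mul_assoc, ← map_mul (T.pull q), tr_prod' T hP]
  rw [ofMaps, Finset.mul_sum, Finset.sum_mul, map_sum]
  simp only [Finset.mul_sum, Finset.sum_mul, map_sum, key]
  by_cases hs : s < 0 ∨ 2 * 𝐝 X < s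
  · have : a = 0 := Subtype.ext (eq_zero_of_deg T a.2 hs)
    subst this
    simp
  obtain ⟨s₀, rfl⟩ := Int.eq_ofNat_of_zero_le (show (0 : ℤ) ≤ s by omega)
  rw [Finset.sum_eq_single_of_mem s₀ (Finset.mem_range.2 (by omega)) fun i _ hi =>
    Finset.sum_eq_zero fun l _ => by
      rw [tr_mul_eq_zero T a.2 (dv T X i l).2 (by omega), zero_mul]]
  conv_rhs => rw [← (ev T X s₀).sum_repr a]
  rw [map_sum, AddSubmonoidClass.coe_finsetSum, Finset.sum_mul, map_sum]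
  refine Finset.sum_congr rfl fun l _ => ?_
  rw [map_smul, SetLike.val_smul, smul_mul_assoc, map_smul, smul_eq_mul, tr_mul_dv]

theorem corr_ofMaps (hP : IsProd p q) {m : ℤ}
    (L : (i : ℤ) → (T.gr X i →ₗ[K] T.gr Y (i + m + 2 * 𝐝 Y - 2 * 𝐝 Q))) :
    (fun i => corr T p q (⟨ofMaps T p q L, ofMaps_mem T hP L⟩ : T.gr Q m) i) = L := by
  funext i
  refine LinearMap.ext fun a => Subtype.ext ?_
  refine eq_of_pairing T (j := 2 * 𝐝 Q - (i + m)) (by omega) (corr T p q _ i a).2 (L i a).2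
    fun c hc => ?_
  rw [corr_spec T p q _ i a hc, tr_ofMaps T hP L i a c]

/-- The expansion of a class through its action. -/
theorem ofMaps_corr (hP : IsProd p q) {m : ℤ} (φ : T.gr Q m) :
    ofMaps T p q (fun i => corr T p q φ i) = φ :=
  eq_of_prod_pairing T hP (ofMaps_mem T hP _) φ.2 fun i a c ha hc => by
    rw [show a = ((⟨a, ha⟩ : T.gr X i) : T.H X) from rfl, tr_ofMaps T hP _ i ⟨a, ha⟩ c,
      corr_spec T p q φ i ⟨a, ha⟩ hc]

/-- Classes are the same as their actions. -/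
theorem bijective_corr (hP : IsProd p q) (m : ℤ) :
    Function.Bijective (fun φ : T.gr Q m => fun i : ℤ => corr T p q φ i) :=
  ⟨fun φ ψ h => Subtype.ext (by
      have h' : (fun i => corr T p q φ i) = fun i => corr T p q ψ i := h
      rw [← ofMaps_corr T hP φ, h', ofMaps_corr T hP ψ]),
    fun L => ⟨⟨ofMaps T p q L, ofMaps_mem T hP L⟩, corr_ofMaps T hP L⟩⟩

variable {p' : Q' ⟶ Y} {q' : Q' ⟶ X} {σ : Q ⟶ Q'}

/-- The exchange of factors preserves the trace. -/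
theorem tr_swap (hP : IsProd p q) (hP' : IsProd p' q') (hσ₁ : σ ≫ p' = q) (hσ₂ : σ ≫ q' = p)
    (x : T.H Q') : T.tr Q (T.pull σ x) = T.tr Q' x := by
  refine LinearMap.congr_fun (prod_ext T hP' (T.tr Q ∘ₗ (T.pull σ).toLinearMap) (T.tr Q')
    fun i j a b ha hb => ?_) x
  show T.tr Q (T.pull σ (T.pull p' a * T.pull q' b)) = _
  rw [map_mul (T.pull σ), pull_graph T hσ₁, pull_graph T hσ₂,
    tr_comm T (T.pull_mem q i a ha) (T.pull_mem p j b hb), tr_prod' T hP, tr_prod' T hP']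
  by_cases hi : i = 2 * 𝐝 Y
  · subst hi
    rw [(((even_two_mul (𝐝 Y)).mul_right j)).neg_one_zpow, one_mul, mul_comm]
  · rw [tr_eq_zero T ha hi, mul_zero, mul_zero, zero_mul]

/-- **The trace formula for correspondences.** -/
theorem tr_mul_swap (hP : IsProd p q) (hP' : IsProd p' q') (hσ₁ : σ ≫ p' = q) (hσ₂ : σ ≫ q' = p)
    {m m' : ℤ} (φ : T.gr Q m) (ψ : T.gr Q' m') (hm : m + m' = 2 * 𝐝 Q)
    (hdim : ∀ i : ℤ, (i + m + 2 * 𝐝 Y - 2 * 𝐝 Q) + m' + 2 * 𝐝 X - 2 * 𝐝 Q' = i) :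
    T.tr Q ((φ : T.H Q) * T.pull σ (ψ : T.H Q')) =
      ∑ i ∈ Finset.range (2 * WeilCoh.dim X.obj.left + 1),
        (-1 : K) ^ i * LinearMap.trace K ↥(T.gr X (i : ℤ))
          ((LinearEquiv.ofEq _ _ (congrArg (T.gr X) (hdim (i : ℤ)))).toLinearMap ∘ₗ
            (corr T p' q' ψ ((i : ℤ) + m + 2 * 𝐝 Y - 2 * 𝐝 Q)) ∘ₗ corr T p q φ (i : ℤ)) := by
  have hd := dim_prod T hP
  have hd' := dim_prod T hP'
  conv_lhs => rw [← ofMaps_corr T hP φ, ofMaps, Finset.sum_mul, map_sum]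
  refine Finset.sum_congr rfl fun i _ => ?_
  rw [LinearMap.trace_eq_matrix_trace K (ev T X i), Matrix.trace, Finset.mul_sum, Finset.sum_mul,
    map_sum]
  refine Finset.sum_congr rfl fun l _ => ?_
  rw [Matrix.diag_apply, LinearMap.toMatrix_apply, ← tr_mul_dv]
  set A := corr T p q φ (i : ℤ) (ev T X i l) with hA
  set f := dv T X i l
  show T.tr Q (T.pull p (f : T.H X) * T.pull q (A : T.H Y) * T.pull σ (ψ : T.H Q')) =
    (-1 : K) ^ i * T.tr X ((corr T p' q' ψ ((i : ℤ) + m + 2 * 𝐝 Y - 2 * 𝐝 Q) A : T.H X) * (f : T.H X))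
  rw [corr_spec T p' q' ψ _ A (mem_congr T (by omega) f.2), ← pull_graph T hσ₁, ← pull_graph T hσ₂,
    ← map_mul (T.pull σ), ← map_mul (T.pull σ), tr_swap T hP hP' hσ₁ hσ₂, mul_assoc,
    tr_comm T (T.pull_mem q' _ _ f.2) (mul_mem T (T.pull_mem p' _ _ A.2) ψ.2),
    neg_one_zpow_congr (b := (i : ℤ)), zpow_natCast]
  rw [show (2 * 𝐝 X - (i : ℤ)) * ((i : ℤ) + m + 2 * 𝐝 Y - 2 * 𝐝 Q + m') =
    (2 * 𝐝 X - (i : ℤ)) * ((i : ℤ) + 2 * 𝐝 Y) from congrArg _ (by omega)]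
  rcases Int.even_or_odd (i : ℤ) with ⟨t, ht⟩ | ⟨t, ht⟩ <;> rw [ht]
  · exact ⟨(𝐝 X - t) * (2 * t + 2 * 𝐝 Y) - t, by ring⟩
  · exact ⟨2 * 𝐝 X * t + 𝐝 X + 2 * 𝐝 X * 𝐝 Y - 2 * t * t - 3 * t - 2 * t * 𝐝 Y - 𝐝 Y - 1, by ring⟩

end

end Groth.Agent.WeilLib

namespace Groth.Agent.WeilLib

open WeilCoh

noncomputable section

variable {k : Type u} [Field k] {P : ObjectProperty (Over (Spec (CommRingCat.of k)))}
variable {K : Type v} [Field K] (T : TheoryOn.{u, v, w} k P K)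
variable {X Y Q : P.FullSubcategory} (p : Q ⟶ X) (q : Q ⟶ Y)

theorem corr_index {m : ℤ} (φ : T.gr Q m) {i i' : ℤ} (h : i' = i) (a : T.gr X i') (b : T.gr X i)
    (hab : (a : T.H X) = b) :
    (corr T p q φ i' a : T.H Y) = (corr T p q φ i b : T.H Y) := by
  subst h
  rw [Subtype.ext hab]

end

end Groth.Agent.WeilLib
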