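import Groth.Agent.WeilLib.Corr
import Groth.Agent.WeilLib.Geometry
import Mathlib.LinearAlgebra.Charpoly.Basic
import Mathlib.LinearAlgebra.Trace
import Mathlib.Data.Int.Interval

/-!
# Algebraic correspondences: transposition, projectors
-/

universe u v

open AlgebraicGeometry CategoryTheory

namespace Groth.Agent.WeilLib

open WeilCoh

noncomputable section

variable {k : Type u} [Field k] [IsAlgClosed k] {K : Type v} [Field K] [CharZero K] (T : Theory k K)
variable {X P : Var k} {p q : P ⟶ X}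

/-- The pull-back along an involution preserves algebraic classes. -/
theorem pull_cl_mem_span {Y : Var k} {σ : Y ⟶ Y} (hσ : σ ≫ σ = 𝟙 Y) (ξ : ↥Y.obj.left) :
    T.pull σ (T.cl Y ξ) ∈ Submodule.span K (Set.range (T.cl Y)) := by
  have hinv : sm σ ≫ sm σ = 𝟙 Y.obj.left := sm_section hσ
  have : IsIso (sm σ) := ⟨sm σ, hinv, hinv⟩
  have hpt : ∀ w, sm σ (sm σ w) = w := fun w =>
    congrArg (fun m : Y.obj.left ⟶ Y.obj.left => m w) hinv
  rw [T.cl_pull σ ξ (fun w hw => ?_) (Or.inl ⟨⊤, fun _ _ => trivial, inferInstance⟩)]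
  · refine finsum_induction (fun z => z ∈ Submodule.span K (Set.range (T.cl Y)))
      (Submodule.zero_mem _) (fun a b => Submodule.add_mem _) fun w => ?_
    exact Submodule.smul_mem _ _ (Submodule.subset_span ⟨w.1, rfl⟩)
  · have h1 : sm σ ξ ∈ (sm σ) ⁻¹' closure ({ξ} : Set ↥Y.obj.left) :=
      subset_closure (hpt ξ)
    have h2 : sm σ ξ ⤳ w := by
      have := (specializes_iff_mem_closure.2 hw.1).map (sm σ).continuous
      rwa [hpt] at this
    rw [← hw.2 (sm σ ξ) h1 h2, pdim_section hσ]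
    ring

theorem pull_mem_span {Y : Var k} {σ : Y ⟶ Y} (hσ : σ ≫ σ = 𝟙 Y) {x : T.H Y}
    (hx : x ∈ Submodule.span K (Set.range (T.cl Y))) :
    T.pull σ x ∈ Submodule.span K (Set.range (T.cl Y)) := by
  induction hx using Submodule.span_induction with
  | mem x hx => obtain ⟨ξ, rfl⟩ := hx; exact pull_cl_mem_span T hσ ξ
  | zero => rw [map_zero]; exact Submodule.zero_mem _
  | add a b _ _ ha hb => rw [map_add]; exact Submodule.add_mem _ ha hb
  | smul c a _ ha => rw [map_smul]; exact Submodule.smul_mem _ c ha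

theorem comp_eq_id_swap (hP : IsProd p q) {σ : P ⟶ P} (hσp : σ ≫ p = q) (hσq : σ ≫ q = p) :
    σ ≫ σ = 𝟙 P := by
  ext1; ext1
  show sm σ ≫ sm σ = 𝟙 P.obj.left
  have h1 : sm σ ≫ sm p = sm q := congrArg (fun m : P ⟶ X => sm m) hσp
  have h2 : sm σ ≫ sm q = sm p := congrArg (fun m : P ⟶ X => sm m) hσq
  apply hP.hom_ext
  · rw [Category.assoc, h1, h2, Category.id_comp]
  · rw [Category.assoc, h2, h1, Category.id_comp]

/-- Transposed graphs act by pull-back. -/
theorem push_mul_transposeGraph (hP : IsProd p q) {G : X ⟶ X} {j : X ⟶ P} (hjp : j ≫ p = G)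
    (hjq : j ≫ q = 𝟙 X) (i : ℤ) (b : T.gr X i) :
    ∃ u : T.gr P (2 * 𝐝 X), (u : T.H P) ∈ Submodule.span K (Set.range (T.cl P)) ∧
      (T.push q (i + 2 * 𝐝 X)
        ⟨T.pull p (b : T.H X) * u, mul_mem T (T.pull_mem p i b b.2) u.2⟩ : T.H X) =
          T.pull G (b : T.H X) ∧ (u : T.H P) = T.cl P (sm j (gen X)) := by
  have hd := dim_prod T hP
  have hcd : 2 * (codim P.obj.left (sm j (gen X)) : ℤ) = 2 * 𝐝 X := by
    rw [cast_codim, pdim_section hjq, pdim_gen, hd]; ring
  refine ⟨⟨_, mem_congr T hcd (T.cl_mem P (sm j (gen X)))⟩, Submodule.subset_span ⟨_, rfl⟩, ?_, rfl⟩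
  refine push_eq T q _ _ (mem_congr T (by omega) (T.pull_mem G i b b.2)) fun c hc => ?_
  show _ = T.tr P (T.pull p (b : T.H X) * T.cl P (sm j (gen X)) * T.pull q c)
  rw [comm_even T (T.pull_mem p i b b.2) (T.cl_mem P _) ((even_two_mul _).mul_left i), mul_assoc (T.cl P _),
    (isGraphClass_cl T hjq).tr_mul _ (mem_congr T (by omega) (prod_mem T p q b.2 hc)),
    map_mul (T.pull j), pull_graph T hjp, pull_section T hjq]

theorem exists_pow (F : X ⟶ X) (n : ℕ) :
    ∃ G : X ⟶ X, ∀ i, T.pullDeg G i = (T.pullDeg F i) ^ n := by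
  induction n with
  | zero =>
    refine ⟨𝟙 X, fun i => LinearMap.ext fun a => Subtype.ext ?_⟩
    show T.pull (𝟙 X) (a : T.H X) = _
    rw [T.pull_id]
    rfl
  | succ n ih =>
    obtain ⟨G, hG⟩ := ih
    refine ⟨G ≫ F, fun i => ?_⟩
    rw [pow_succ, ← hG]
    refine LinearMap.ext fun a => Subtype.ext ?_
    show T.pull (G ≫ F) (a : T.H X) = T.pull G (T.pull F (a : T.H X))
    rw [T.pull_comp]
    rfl

theorem exists_transposeGraph (hP : IsProd p q) (G : X ⟶ X) :
    ∃ j : X ⟶ P, j ≫ p = G ∧ j ≫ q = 𝟙 X := by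
  have w : sm G ≫ X.obj.hom = 𝟙 _ ≫ X.obj.hom := by rw [Category.id_comp, over_w]
  refine ⟨ObjectProperty.homMk (Over.homMk (hP.lift (sm G) (𝟙 _) w)
    (by rw [← over_w q, ← Category.assoc, hP.lift_snd, Category.id_comp])), ?_, ?_⟩
  · ext1; ext1; exact hP.lift_fst _ _ _
  · ext1; ext1; exact hP.lift_snd _ _ _

/-- Polynomials in the pull-back of an endomorphism are actions of algebraic classes. -/
theorem exists_corr_aeval (hP : IsProd p q) (F : X ⟶ X) (R : Polynomial K) :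
    ∃ u : T.gr P (2 * 𝐝 X), (u : T.H P) ∈ Submodule.span K (Set.range (T.cl P)) ∧
      ∀ (i : ℤ) (b : T.gr X i), (T.push q (i + 2 * 𝐝 X)
        ⟨T.pull p (b : T.H X) * u, mul_mem T (T.pull_mem p i b b.2) u.2⟩ : T.H X) =
          (Polynomial.aeval (T.pullDeg F i) R b : T.gr X i) := by
  induction R using Polynomial.induction_on' with
  | add R S hR hS =>
    obtain ⟨u, hu, hu'⟩ := hR
    obtain ⟨u₂, hu₂, hu₂'⟩ := hS
    refine ⟨u + u₂, Submodule.add_mem _ hu hu₂, fun i b => ?_⟩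
    have h : (⟨T.pull p (b : T.H X) * ((u + u₂ : T.gr P (2 * 𝐝 X)) : T.H P),
        mul_mem T (T.pull_mem p i b b.2) (u + u₂).2⟩ : T.gr P (i + 2 * 𝐝 X)) =
        ⟨T.pull p (b : T.H X) * u, mul_mem T (T.pull_mem p i b b.2) u.2⟩ +
          ⟨T.pull p (b : T.H X) * u₂, mul_mem T (T.pull_mem p i b b.2) u₂.2⟩ :=
      Subtype.ext (mul_add (T.pull p (b : T.H X)) (u : T.H P) (u₂ : T.H P))
    rw [h, map_add, map_add, LinearMap.add_apply, Submodule.coe_add, Submodule.coe_add, hu', hu₂']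
  | monomial n c =>
    obtain ⟨G, hG⟩ := exists_pow T F n
    obtain ⟨j, hjp, hjq⟩ := exists_transposeGraph hP G
    have hd := dim_prod T hP
    have hcd : 2 * (codim P.obj.left (sm j (gen X)) : ℤ) = 2 * 𝐝 X := by
      rw [cast_codim, pdim_section hjq, pdim_gen, hd]; ring
    refine ⟨c • ⟨_, mem_congr T hcd (T.cl_mem P (sm j (gen X)))⟩,
      Submodule.smul_mem _ c (Submodule.subset_span ⟨_, rfl⟩), fun i b => ?_⟩
    obtain ⟨u, -, hu, hueq⟩ := push_mul_transposeGraph T hP hjp hjq i b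
    rw [Polynomial.aeval_monomial, ← hG, Module.End.mul_apply, Module.algebraMap_end_apply]
    show _ = c • T.pull G (b : T.H X)
    rw [← hu, ← SetLike.val_smul, ← map_smul]
    congr 3
    show T.pull p (b : T.H X) * (c • T.cl P (sm j (gen X))) = c • (T.pull p (b : T.H X) * (u : T.H P))
    rw [hueq, mul_smul_comm]

/-- **Algebraic Künneth projectors** from coprime characteristic polynomials. -/
theorem exists_projector (hP : IsProd p q) (F : X ⟶ X)
    (hF : ∀ i j : ℤ, i ≠ j → IsCoprime (T.pullDeg F i).charpoly (T.pullDeg F j).charpoly) (i : ℤ) :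
    ∃ u : T.gr P (2 * 𝐝 X), (u : T.H P) ∈ Submodule.span K (Set.range (T.cl P)) ∧
      ∀ (j : ℤ) (b : T.gr X j), (T.push q (j + 2 * 𝐝 X)
        ⟨T.pull p (b : T.H X) * u, mul_mem T (T.pull_mem p j b b.2) u.2⟩ : T.H X) =
          if j = i then (b : T.H X) else 0 := by
  classical
  set s := (Finset.Icc (0 : ℤ) (2 * 𝐝 X)).erase i
  obtain ⟨a, b, hab⟩ : IsCoprime (T.pullDeg F i).charpoly (∏ j ∈ s, (T.pullDeg F j).charpoly) :=
    IsCoprime.prod_right fun j hj => hF i j (Finset.ne_of_mem_erase hj).symm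
  obtain ⟨u, hu, hu'⟩ := exists_corr_aeval T hP F (b * ∏ j ∈ s, (T.pullDeg F j).charpoly)
  refine ⟨u, hu, fun j c => ?_⟩
  rw [hu']
  by_cases hj : j < 0 ∨ 2 * 𝐝 X < j
  · have : c = 0 := Subtype.ext (eq_zero_of_deg T c.2 hj)
    subst this
    split_ifs <;> simp
  split_ifs with hji
  · subst hji
    have h := congrArg (fun R => (Polynomial.aeval (T.pullDeg F j) R) c) hab
    simp only [map_add, map_mul (Polynomial.aeval (T.pullDeg F j)), LinearMap.aeval_self_charpoly,
      mul_zero, zero_add, map_one, Module.End.one_apply] at h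
    rw [map_mul, h]
  · have hmem : j ∈ s := Finset.mem_erase.2 ⟨hji, Finset.mem_Icc.2 (by omega)⟩
    rw [← Finset.mul_prod_erase s _ hmem, mul_left_comm, map_mul,
      LinearMap.aeval_self_charpoly, zero_mul]
    rfl

end

end Groth.Agent.WeilLib
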