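import Groth.Prelude.Def_WeilCoh
import Mathlib.LinearAlgebra.Dual.Basis
import Mathlib.LinearAlgebra.Trace

/-!
# Formal consequences of the axioms of a Weil cohomology theory

Degree bookkeeping, uniqueness by Poincaré duality, the push-forward, products of two objects.
-/

universe u v w

open AlgebraicGeometry CategoryTheory TensorProduct

namespace Groth.Agent.WeilLib

open WeilCoh

noncomputable section

variable {k : Type u} [Field k] {P : ObjectProperty (Over (Spec (CommRingCat.of k)))}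
variable {K : Type v} [Field K] (T : TheoryOn.{u, v, w} k P K)
variable {X Y Z Q : P.FullSubcategory}

/-- The dimension of an object, as an integer. -/
scoped macro "𝐝 " X:term:max : term => `(((WeilCoh.dim ($X).obj.left : ℕ) : ℤ))

/-! ## degrees -/

theorem one_mem (X : P.FullSubcategory) : (1 : T.H X) ∈ T.gr X 0 := SetLike.one_mem_graded (T.gr X)

theorem mul_mem {i j : ℤ} {a b : T.H X} (ha : a ∈ T.gr X i) (hb : b ∈ T.gr X j) :
    a * b ∈ T.gr X (i + j) := SetLike.mul_mem_graded ha hb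

theorem mem_congr {i j : ℤ} (h : i = j) {a : T.H X} (ha : a ∈ T.gr X i) : a ∈ T.gr X j := h ▸ ha

theorem eq_zero_of_deg {i : ℤ} {a : T.H X} (ha : a ∈ T.gr X i) (h : i < 0 ∨ 2 * 𝐝 X < i) :
    a = 0 := by
  rw [T.vanish X i h] at ha
  exact (Submodule.mem_bot K).1 ha

theorem tr_eq_zero {i : ℤ} {a : T.H X} (ha : a ∈ T.gr X i) (h : i ≠ 2 * 𝐝 X) : T.tr X a = 0 :=
  T.tr_vanish X i a ha h

theorem tr_mul_eq_zero {i j : ℤ} {a b : T.H X} (ha : a ∈ T.gr X i) (hb : b ∈ T.gr X j)
    (h : i + j ≠ 2 * 𝐝 X) : T.tr X (a * b) = 0 :=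
  tr_eq_zero T (mul_mem T ha hb) h

/-- Graded commutativity with an integer exponent. -/
theorem comm {i j : ℤ} {a b : T.H X} (ha : a ∈ T.gr X i) (hb : b ∈ T.gr X j) :
    a * b = ((-1 : K) ^ (i * j)) • (b * a) := by
  rw [T.gradedComm X i j a b ha hb]
  congr 1
  rw [← Int.natAbs_mul]
  rcases Int.natAbs_eq (i * j) with h | h
  · conv_rhs => rw [h, zpow_natCast]
  · conv_rhs => rw [h, zpow_neg, zpow_natCast, ← inv_pow, inv_neg, inv_one]

theorem comm_even {i j : ℤ} {a b : T.H X} (ha : a ∈ T.gr X i) (hb : b ∈ T.gr X j)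
    (h : Even (i * j)) : a * b = b * a := by
  rw [comm T ha hb, h.neg_one_zpow, one_smul]

theorem tr_comm {i j : ℤ} {a b : T.H X} (ha : a ∈ T.gr X i) (hb : b ∈ T.gr X j) :
    T.tr X (a * b) = ((-1 : K) ^ (i * j)) * T.tr X (b * a) := by
  rw [comm T ha hb, map_smul, smul_eq_mul]

/-- A property of classes holds everywhere if it is additive and holds on homogeneous classes. -/
theorem homogeneous_induction {C : T.H X → Prop} (a : T.H X)
    (hom : ∀ (i : ℤ) (x : T.H X), x ∈ T.gr X i → C x) (zero : C 0)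
    (add : ∀ x y : T.H X, C x → C y → C (x + y)) : C a :=
  Submodule.iSup_induction (T.gr X) (x := a) (by rw [(T.decomp X).submodule_iSup_eq_top]; trivial)
    hom zero add

/-- Two linear maps agree if they agree on homogeneous classes. -/
theorem linearMap_ext_homogeneous {M : Type*} [AddCommGroup M] [Module K M]
    (f g : T.H X →ₗ[K] M) (h : ∀ (i : ℤ) (x : T.H X), x ∈ T.gr X i → f x = g x) : f = g := by
  refine LinearMap.ext fun a => homogeneous_induction T (C := fun a => f a = g a) a h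
    (by rw [map_zero, map_zero]) fun x y hx hy => by rw [map_add, map_add, hx, hy]

/-! ## Poincaré duality -/

theorem eq_zero_of_pairing {i j : ℤ} (h : i + j = 2 * 𝐝 X) {a : T.H X} (ha : a ∈ T.gr X i)
    (H : ∀ b ∈ T.gr X j, T.tr X (a * b) = 0) : a = 0 := by
  have := T.duality X i j h
  have h0 : (pairing K (T.gr X i) (T.gr X j) (T.tr X)).toPerfPair ⟨a, ha⟩ = 0 := by
    refine LinearMap.ext fun b => ?_
    rw [LinearMap.toPerfPair_apply]
    exact H b b.2
  exact congrArg Subtype.val ((LinearEquiv.map_eq_zero_iff _).1 h0)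

theorem eq_of_pairing {i j : ℤ} (h : i + j = 2 * 𝐝 X) {a b : T.H X} (ha : a ∈ T.gr X i)
    (hb : b ∈ T.gr X i) (H : ∀ c ∈ T.gr X j, T.tr X (a * c) = T.tr X (b * c)) : a = b :=
  sub_eq_zero.1 (eq_zero_of_pairing T h (Submodule.sub_mem _ ha hb) fun c hc => by
    rw [sub_mul, map_sub, H c hc, sub_self])

theorem eq_zero_of_pairing_right {i j : ℤ} (h : i + j = 2 * 𝐝 X) {b : T.H X} (hb : b ∈ T.gr X j)
    (H : ∀ a ∈ T.gr X i, T.tr X (a * b) = 0) : b = 0 :=
  eq_zero_of_pairing T (i := j) (j := i) (by omega) hb fun a ha => by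
    rw [tr_comm T hb ha, H a ha, mul_zero]

/-- The trace in top degree is injective. -/
theorem top_ext {a b : T.H X} (ha : a ∈ T.gr X (2 * 𝐝 X)) (hb : b ∈ T.gr X (2 * 𝐝 X))
    (h : T.tr X a = T.tr X b) : a = b :=
  congrArg Subtype.val ((T.tr_bijective X).1 (a₁ := ⟨a, ha⟩) (a₂ := ⟨b, hb⟩) h)

theorem exists_top (X : P.FullSubcategory) (c : K) :
    ∃ a ∈ T.gr X (2 * 𝐝 X), T.tr X a = c := by
  obtain ⟨⟨a, ha⟩, h⟩ := (T.tr_bijective X).2 c
  exact ⟨a, ha, h⟩

theorem one_ne_zero (X : P.FullSubcategory) : (1 : T.H X) ≠ 0 := by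
  intro h
  obtain ⟨a, -, ha⟩ := exists_top T X 1
  rw [← mul_one a, h, mul_zero, map_zero] at ha
  exact zero_ne_one ha

theorem finrank_gr_zero (X : P.FullSubcategory) : Module.finrank K (T.gr X 0) = 1 := by
  have := T.duality X 0 (2 * 𝐝 X) (by omega)
  have e := LinearEquiv.ofBijective _ (T.tr_bijective X)
  rw [((pairing K (T.gr X 0) (T.gr X (2 * 𝐝 X)) (T.tr X)).toPerfPair).finrank_eq,
    Subspace.dual_finrank_eq, e.finrank_eq, Module.finrank_self]

/-- `H⁰` is `K · 1`. -/
theorem exists_eq_smul_one {a : T.H X} (ha : a ∈ T.gr X 0) : ∃ c : K, a = c • (1 : T.H X) := by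
  obtain ⟨c, hc⟩ := exists_smul_eq_of_finrank_eq_one (finrank_gr_zero T X)
    (x := ⟨1, one_mem T X⟩) (fun h => one_ne_zero T X (congrArg Subtype.val h)) ⟨a, ha⟩
  exact ⟨c, (congrArg Subtype.val hc).symm⟩

theorem finrank_gr_compl (X : P.FullSubcategory) (i j : ℤ) (h : i + j = 2 * 𝐝 X) :
    Module.finrank K (T.gr X i) = Module.finrank K (T.gr X j) := by
  have := T.duality X i j h
  rw [((pairing K (T.gr X i) (T.gr X j) (T.tr X)).toPerfPair).finrank_eq, Subspace.dual_finrank_eq]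

/-! ## push-forward -/

/-- The defining property of the push-forward. -/
theorem push_spec (f : X ⟶ Y) (i : ℤ) (a : T.gr X i) {b : T.H Y}
    (hb : b ∈ T.gr Y (2 * 𝐝 X - i)) :
    T.tr Y ((T.push f i a : T.H Y) * b) = T.tr X ((a : T.H X) * T.pull f b) := by
  have := T.duality Y (i + 2 * 𝐝 Y - 2 * 𝐝 X) (2 * 𝐝 X - i) (by omega)
  set p := pairing K (T.gr Y (i + 2 * 𝐝 Y - 2 * 𝐝 X)) (T.gr Y (2 * 𝐝 X - i)) (T.tr Y)
  have h : p.toPerfPair (T.push f i a) = T.pushFunctional f i a :=
    LinearEquiv.apply_symm_apply _ _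
  exact LinearMap.congr_fun h ⟨b, hb⟩

theorem push_mem (f : X ⟶ Y) (i : ℤ) (a : T.gr X i) :
    (T.push f i a : T.H Y) ∈ T.gr Y (i + 2 * 𝐝 Y - 2 * 𝐝 X) := (T.push f i a).2

/-- Characterisation of the push-forward. -/
theorem push_eq (f : X ⟶ Y) (i : ℤ) (a : T.gr X i) {c : T.H Y}
    (hc : c ∈ T.gr Y (i + 2 * 𝐝 Y - 2 * 𝐝 X))
    (H : ∀ b ∈ T.gr Y (2 * 𝐝 X - i), T.tr Y (c * b) = T.tr X ((a : T.H X) * T.pull f b)) :
    (T.push f i a : T.H Y) = c :=
  eq_of_pairing T (j := 2 * 𝐝 X - i) (by omega) (push_mem T f i a) hc fun b hb => by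
    rw [push_spec T f i a hb, H b hb]

theorem push_eq_zero_of_deg (f : X ⟶ Y) (i : ℤ) (a : T.gr X i)
    (h : i + 2 * 𝐝 Y - 2 * 𝐝 X < 0 ∨ 2 * 𝐝 Y < i + 2 * 𝐝 Y - 2 * 𝐝 X) :
    (T.push f i a : T.H Y) = 0 := eq_zero_of_deg T (push_mem T f i a) h

theorem push_mul_pull (f : X ⟶ Y) (i j : ℤ) (a : T.gr X i) (c : T.gr Y j) :
    (T.push f (i + j) ⟨(a : T.H X) * T.pull f c, mul_mem T a.2 (T.pull_mem f j c c.2)⟩ : T.H Y) =
      (T.push f i a : T.H Y) * c := by
  refine push_eq T f (i + j) _ (mem_congr T (by omega) (mul_mem T (push_mem T f i a) c.2))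
    fun b hb => ?_
  rw [mul_assoc, push_spec T f i a (mem_congr T (by omega) (mul_mem T c.2 hb)), map_mul (T.pull f), mul_assoc]

theorem push_comp (f : X ⟶ Y) (g : Y ⟶ Z) (i : ℤ) (a : T.gr X i) :
    (T.push (f ≫ g) i a : T.H Z) =
      (T.push g (i + 2 * 𝐝 Y - 2 * 𝐝 X) (T.push f i a) : T.H Z) := by
  refine push_eq T (f ≫ g) i a (mem_congr T (by omega) (push_mem T g _ _)) fun b hb => ?_
  rw [push_spec T g _ _ (mem_congr T (by omega) hb), push_spec T f i a (T.pull_mem g _ b hb),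
    T.pull_comp]
  rfl

/-! ## products -/

variable (p : Q ⟶ X) (q : Q ⟶ Y)

/-- The classes `p^* a * q^* b` with `a`, `b` homogeneous of total degree `n`. -/
def prodSpan (n : ℤ) : Submodule K (T.H Q) :=
  Submodule.span K {c | ∃ (i : ℤ) (a : T.H X) (b : T.H Y),
    a ∈ T.gr X i ∧ b ∈ T.gr Y (n - i) ∧ T.pull p a * T.pull q b = c}

theorem prod_mem {i j : ℤ} {a : T.H X} {b : T.H Y} (ha : a ∈ T.gr X i) (hb : b ∈ T.gr Y j) :
    T.pull p a * T.pull q b ∈ T.gr Q (i + j) :=
  mul_mem T (T.pull_mem p i a ha) (T.pull_mem q j b hb)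

theorem prodSpan_le (n : ℤ) : prodSpan T p q n ≤ T.gr Q n :=
  Submodule.span_le.2 fun c ⟨i, a, b, ha, hb, hc⟩ =>
    hc ▸ mem_congr T (by omega) (prod_mem T p q ha hb)

variable {p q}

/-- A linear map vanishing on all products vanishes. -/
theorem prod_ext (hP : IsProd p q) {M : Type*} [AddCommGroup M] [Module K M]
    (f g : T.H Q →ₗ[K] M)
    (h : ∀ (i j : ℤ) (a : T.H X) (b : T.H Y), a ∈ T.gr X i → b ∈ T.gr Y j →
      f (T.pull p a * T.pull q b) = g (T.pull p a * T.pull q b)) : f = g := by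
  refine LinearMap.ext fun c => ?_
  obtain ⟨t, rfl⟩ := (T.kunneth p q hP).2 c
  induction t using TensorProduct.induction_on with
  | zero => rw [map_zero, map_zero, map_zero]
  | add x y hx hy => rw [map_add, map_add, map_add, hx, hy]
  | tmul a b =>
    show f (T.pull p a * T.pull q b) = g (T.pull p a * T.pull q b)
    refine homogeneous_induction T
      (C := fun a => f (T.pull p a * T.pull q b) = g (T.pull p a * T.pull q b)) a
      (fun i x hx => ?_) (by simp) fun x y hx hy => by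
      rw [map_add, add_mul, map_add, map_add, hx, hy]
    exact homogeneous_induction T
      (C := fun b => f (T.pull p x * T.pull q b) = g (T.pull p x * T.pull q b)) b
      (fun j y hy => h i j x y hx hy) (by simp) fun y z hy hz => by
      rw [map_add, mul_add, map_add, map_add, hy, hz]

theorem iSup_prodSpan (hP : IsProd p q) : ⨆ n, prodSpan T p q n = ⊤ := by
  refine eq_top_iff.2 fun c _ => ?_
  have := prod_ext T hP (Submodule.mkQ (⨆ n, prodSpan T p q n)) 0 fun i j a b ha hb =>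
    (Submodule.Quotient.mk_eq_zero _).2 (Submodule.mem_iSup_of_mem (i + j)
      (Submodule.subset_span ⟨i, a, b, ha, mem_congr T (by omega) hb, rfl⟩))
  exact (Submodule.Quotient.mk_eq_zero _).1 (LinearMap.congr_fun this c)

/-- The classes of degree `n` on a product are spanned by products of homogeneous classes. -/
theorem prodSpan_eq (hP : IsProd p q) (n : ℤ) : prodSpan T p q n = T.gr Q n := by
  refine le_antisymm (prodSpan_le T p q n) fun c hc => ?_
  have hc' : c ∈ prodSpan T p q n ⊔ ⨆ (m) (_ : m ≠ n), prodSpan T p q m := by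
    rw [← iSup_split_single (prodSpan T p q) n, iSup_prodSpan T hP]
    trivial
  obtain ⟨x, hx, y, hy, rfl⟩ := Submodule.mem_sup.1 hc'
  have hy' : y ∈ ⨆ (m) (_ : m ≠ n), T.gr Q m := iSup₂_mono (fun m _ => prodSpan_le T p q m) hy
  have hy'' : y ∈ T.gr Q n := by
    simpa using Submodule.sub_mem _ hc (prodSpan_le T p q n hx)
  have h0 := Submodule.disjoint_def.1 ((T.decomp Q).submodule_iSupIndep n) y hy'' hy'
  rw [h0, add_zero]
  exact hx

/-- To compare two functionals on the classes of degree `n` of a product it suffices to compare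
them on products. -/
theorem prod_ext_deg (hP : IsProd p q) {n : ℤ} {M : Type*} [AddCommGroup M] [Module K M]
    (f g : T.H Q →ₗ[K] M)
    (h : ∀ (i : ℤ) (a : T.H X) (b : T.H Y), a ∈ T.gr X i → b ∈ T.gr Y (n - i) →
      f (T.pull p a * T.pull q b) = g (T.pull p a * T.pull q b))
    {c : T.H Q} (hc : c ∈ T.gr Q n) : f c = g c := by
  rw [← prodSpan_eq T hP n] at hc
  refine LinearMap.eqOn_span (f := f) (g := g) ?_ hc
  rintro x ⟨i, a, b, ha, hb, rfl⟩
  exact h i a b ha hb

include T in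
/-- The dimension of a product is the sum of the dimensions. -/
theorem dim_prod (hP : IsProd p q) : 𝐝 Q = 𝐝 X + 𝐝 Y := by
  obtain ⟨a, ha, ha1⟩ := exists_top T X 1
  obtain ⟨b, hb, hb1⟩ := exists_top T Y 1
  have h := T.tr_prod p q hP a b ha hb
  rw [ha1, hb1, one_mul] at h
  by_contra hne
  rw [tr_eq_zero T (prod_mem T p q ha hb) (by omega)] at h
  exact zero_ne_one h

/-- The trace of a product is multiplicative on all classes. -/
theorem tr_prod' (hP : IsProd p q) (a : T.H X) (b : T.H Y) :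
    T.tr Q (T.pull p a * T.pull q b) = T.tr X a * T.tr Y b := by
  refine homogeneous_induction T
    (C := fun a => T.tr Q (T.pull p a * T.pull q b) = T.tr X a * T.tr Y b) a
    (fun i x hx => ?_) (by simp) fun x y hx hy => by
    rw [map_add, add_mul, map_add, map_add, add_mul, hx, hy]
  refine homogeneous_induction T
    (C := fun b => T.tr Q (T.pull p x * T.pull q b) = T.tr X x * T.tr Y b) b
    (fun j y hy => ?_) (by simp) fun y z hy hz => by
    rw [map_add, mul_add, map_add, map_add, mul_add, hy, hz]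
  have hd := dim_prod T hP
  by_cases hi : i = 2 * 𝐝 X
  · by_cases hj : j = 2 * 𝐝 Y
    · subst hi; subst hj
      exact T.tr_prod p q hP x y hx hy
    · rw [tr_eq_zero T hy hj, mul_zero, tr_eq_zero T (prod_mem T p q hx hy) (by omega)]
  · rw [tr_eq_zero T hx hi, zero_mul]
    by_cases hs : i + j = 2 * 𝐝 Q
    · by_cases h2 : 2 * 𝐝 X < i
      · rw [eq_zero_of_deg T hx (Or.inr h2), map_zero, zero_mul, map_zero]
      · rw [eq_zero_of_deg T hy (Or.inr (by omega)), map_zero, mul_zero, map_zero]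
    · exact tr_eq_zero T (prod_mem T p q hx hy) hs

/-- `p_* q^* a` is `tr a` for `a` in top degree and zero otherwise. -/
theorem push_fst_pull_snd (hP : IsProd p q) (i : ℤ) (a : T.gr Y i) :
    (i = 2 * 𝐝 Y →
      (T.push p i ⟨T.pull q a, T.pull_mem q i a a.2⟩ : T.H X) = algebraMap K (T.H X) (T.tr Y a)) ∧
    (i ≠ 2 * 𝐝 Y →
      (T.push p i ⟨T.pull q a, T.pull_mem q i a a.2⟩ : T.H X) = 0) := by
  have hd := dim_prod T hP
  refine ⟨fun hi => ?_, fun hi => ?_⟩
  · refine push_eq T p i _ ?_ fun b hb => ?_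
    · rw [Algebra.algebraMap_eq_smul_one]
      exact Submodule.smul_mem _ _ (mem_congr T (by omega) (one_mem T X))
    rw [Algebra.algebraMap_eq_smul_one, smul_mul_assoc, one_mul, map_smul, smul_eq_mul,
      comm_even T (T.pull_mem q i a a.2) (T.pull_mem p _ b hb) ⟨𝐝 Y * (2 * 𝐝 Q - i), by subst hi; ring⟩,
      tr_prod' T hP, mul_comm]
  · rcases lt_or_gt_of_ne hi with h | h
    · exact push_eq_zero_of_deg T p i _ (Or.inl (by omega))
    · have h0 : (⟨T.pull q a, T.pull_mem q i a a.2⟩ : T.gr Q i) = 0 :=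
        Subtype.ext (by
          show T.pull q (a : T.H Y) = 0
          rw [eq_zero_of_deg T a.2 (Or.inr h), map_zero])
      rw [h0, map_zero]
      rfl

/-- The K-algebra structure constant: `H⁰` is `K`. -/
theorem smul_one_bijective (X : P.FullSubcategory) :
    Function.Bijective (fun c : K =>
      (⟨c • (1 : T.H X), (T.gr X 0).smul_mem c (one_mem T X)⟩ : ↥(T.gr X 0))) := by
  refine ⟨fun a b h => smul_left_injective K (one_ne_zero T X) (congrArg Subtype.val h),
    fun a => ?_⟩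
  obtain ⟨c, hc⟩ := exists_eq_smul_one T a.2
  exact ⟨c, Subtype.ext hc.symm⟩

end

end Groth.Agent.WeilLib
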