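import Mathlib.Algebra.MvPolynomial.Expand
import Mathlib.FieldTheory.Relrank
import Mathlib.FieldTheory.IntermediateField.Adjoin.Algebra
import Mathlib.RingTheory.AlgebraicIndependent.TranscendenceBasis
import Mathlib.RingTheory.Localization.Module
import Mathlib.RingTheory.Algebraic.Integral

/-!
# The degree of a `Q`-th power endomorphism of a finitely generated field
-/

universe u v

open IntermediateField
open scoped IntermediateField.algebraAdjoinAdjoin

namespace Groth.Agent.WeilLib

noncomputable section

variable {k : Type u} [Field k] {L : Type v} [Field L] [Algebra k L]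
variable {ι : Type*} [Fintype ι] {x : ι → L} {Q : ℕ}

/-- Bounded exponent vectors. -/
abbrev Expts (ι : Type*) (Q : ℕ) := ι → Fin Q

/-- The monomials with exponents below `Q`. -/
def smallMonomial (x : ι → L) (e : Expts ι Q) : L := ∏ i, x i ^ (e i : ℕ)

theorem linearIndependent_smallMonomial (hx : AlgebraicIndependent k x) (hQ : 0 < Q) :
    LinearIndependent (Algebra.adjoin k (Set.range fun i => x i ^ Q))
      (smallMonomial x : Expts ι Q → L) := by
  classical
  rw [Fintype.linearIndependent_iff]
  intro c hc e₀
  have hrep : ∀ e, ∃ P : MvPolynomial ι k,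
      MvPolynomial.aeval x (MvPolynomial.expand Q P) = (c e : L) := by
    intro e
    have h := (c e).2
    obtain ⟨P, hP⟩ := SetLike.le_def.1 (Algebra.adjoin_range_eq_range_aeval k (fun i => x i ^ Q)).le h
    exact ⟨P, by rw [MvPolynomial.aeval_expand]; exact hP⟩
  choose P hP using hrep
  let ee : Expts ι Q → (ι →₀ ℕ) := fun e => Finsupp.equivFunOnFinite.symm fun i => (e i : ℕ)
  let M : MvPolynomial ι k := ∑ e, MvPolynomial.expand Q (P e) * MvPolynomial.monomial (ee e) 1
  have hM : M = 0 := by
    refine hx.eq_zero_of_aeval_eq_zero M ?_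
    rw [← hc, map_sum]
    refine Finset.sum_congr rfl fun e _ => ?_
    rw [map_mul, hP, MvPolynomial.aeval_monomial, map_one, one_mul, Algebra.smul_def,
      Finsupp.prod_fintype _ _ fun i => pow_zero _]
    rfl
  have h0 : P e₀ = 0 := by
    ext a
    have := congrArg (MvPolynomial.coeff (Q • a + ee e₀)) hM
    rw [MvPolynomial.coeff_sum, MvPolynomial.coeff_zero] at this
    rw [MvPolynomial.coeff_zero, ← this, Finset.sum_eq_single e₀ (fun e _ hne => ?_) (by simp)]
    · rw [MvPolynomial.coeff_mul_monomial, mul_one, MvPolynomial.coeff_expand_smul _ hQ.ne']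
    · rw [MvPolynomial.coeff_mul_monomial']
      split_ifs with hle
      · rw [mul_one]
        refine MvPolynomial.coeff_expand_of_not_dvd _ (i := ?_) ?_
        · exact (Function.ne_iff.1 hne).choose
        · set i := (Function.ne_iff.1 hne).choose
          have hi : e i ≠ e₀ i := (Function.ne_iff.1 hne).choose_spec
          have h1 : (ee e) i ≤ (Q • a + ee e₀) i := hle i
          simp only [Finsupp.tsub_apply, Finsupp.add_apply, Finsupp.smul_apply, smul_eq_mul] at h1 ⊢
          intro hdvd
          refine hi (Fin.ext ?_)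
          show (ee e) i = (ee e₀) i
          have h2 : (ee e) i < Q := (e i).2
          have h3 : (ee e₀) i < Q := (e₀ i).2
          obtain ⟨c', hc'⟩ := hdvd
          have h4 : (Q * a i + (ee e₀) i) % Q = (Q * c' + (ee e) i) % Q := by
            congr 1
            omega
          rwa [Nat.mul_add_mod, Nat.mul_add_mod, Nat.mod_eq_of_lt h3, Nat.mod_eq_of_lt h2,
            eq_comm] at h4
      · rfl
  refine Subtype.ext ?_
  rw [← hP, h0, map_zero, map_zero]
  rfl

/-- `k(x)` has degree `Q ^ #ι` over `k(x^Q)`. -/
theorem relfinrank_adjoin_pow (hx : AlgebraicIndependent k x) (hQ : 0 < Q) :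
    relfinrank (adjoin k (Set.range fun i => x i ^ Q)) (adjoin k (Set.range x)) =
      Q ^ Fintype.card ι := by
  classical
  set F := adjoin k (Set.range fun i => x i ^ Q) with hF
  have hle : F ≤ adjoin k (Set.range x) := adjoin_le_iff.2 (by
    rintro _ ⟨i, rfl⟩
    exact pow_mem (subset_adjoin k _ (Set.mem_range_self i)) Q)
  rw [relfinrank_eq_finrank_of_le hle]
  have hpowF : ∀ i, x i ^ Q ∈ F := fun i => subset_adjoin k _ (Set.mem_range_self i)
  have hind : LinearIndependent F (smallMonomial x : Expts ι Q → L) := by
    exact (LinearIndependent.iff_fractionRing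
      (Algebra.adjoin k (Set.range fun i => x i ^ Q)) F).1 (linearIndependent_smallMonomial hx hQ)
  have hspan : Subalgebra.toSubmodule (Algebra.adjoin F (Set.range x)) =
      Submodule.span F (Set.range (smallMonomial x : Expts ι Q → L)) := by
    refine le_antisymm (fun y hy => ?_) (Submodule.span_le.2 ?_)
    · rw [Subalgebra.mem_toSubmodule, Algebra.adjoin_range_eq_range_aeval] at hy
      obtain ⟨P, rfl⟩ := hy
      induction P using MvPolynomial.induction_on' with
      | add p q hp hq => rw [map_add]; exact Submodule.add_mem _ hp hq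
      | monomial a r =>
        show MvPolynomial.aeval x (MvPolynomial.monomial a r) ∈ _
        rw [MvPolynomial.aeval_monomial, ← Algebra.smul_def,
          Finsupp.prod_fintype _ _ fun i => pow_zero _]
        refine Submodule.smul_mem _ _ ?_
        have hmod : ∀ i, a i % Q < Q := fun i => Nat.mod_lt _ hQ
        have h1 : ∏ i, x i ^ a i = (∏ i, (x i ^ Q) ^ (a i / Q)) *
            smallMonomial x (fun i => (⟨a i % Q, hmod i⟩ : Fin Q)) := by
          rw [smallMonomial, ← Finset.prod_mul_distrib]
          exact Finset.prod_congr rfl fun i _ => by rw [← pow_mul, ← pow_add, Nat.div_add_mod]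
        rw [h1]
        have h2 : (∏ i, (x i ^ Q) ^ (a i / Q)) ∈ F := prod_mem fun i _ => pow_mem (hpowF i) _
        exact Submodule.smul_mem _ (⟨_, h2⟩ : F) (Submodule.subset_span ⟨_, rfl⟩)
    · rintro _ ⟨e, rfl⟩
      show smallMonomial x e ∈ Algebra.adjoin F (Set.range x)
      exact prod_mem fun i _ => pow_mem (Algebra.subset_adjoin (Set.mem_range_self i)) _
  have halg : (adjoin F (Set.range x)).toSubalgebra = Algebra.adjoin F (Set.range x) := by
    refine adjoin_toSubalgebra_of_isAlgebraic ?_
    rintro _ ⟨i, rfl⟩
    exact IsAlgebraic.of_pow hQ (isAlgebraic_algebraMap (⟨_, hpowF i⟩ : F))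
  have hext : extendScalars hle = adjoin F (Set.range x) := by
    apply restrictScalars_injective k
    rw [extendScalars_restrictScalars, restrictScalars_adjoin, adjoin_union, adjoin_self,
      sup_eq_right.2 hle]
  rw [hext]
  show Module.finrank F (adjoin F (Set.range x)).toSubalgebra = _
  rw [halg]
  show Module.finrank F (Subalgebra.toSubmodule (Algebra.adjoin F (Set.range x))) = _
  rw [hspan, finrank_span_eq_card hind, Fintype.card_fun, Fintype.card_fin]

/-- **The degree of a `Q`-th power endomorphism**: if `σ` raises a set of generators to the `Q`-th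
power then `[L : σ L] = Q ^ trdeg`. -/
theorem finrank_fieldRange_pow (σ : L →ₐ[k] L) {Q : ℕ} (hQ : 0 < Q) {S : Set L}
    (hgen : adjoin k S = ⊤) (hfg : (⊤ : IntermediateField k L).FG) (hσ : ∀ s ∈ S, σ s = s ^ Q)
    {d : ℕ} (hd : Algebra.trdeg k L = d) :
    Module.finrank σ.fieldRange L = Q ^ d := by
  classical
  have : Algebra.IsAlgebraic (Algebra.adjoin k S) L := by
    have h1 : Algebra.IsAlgebraic (Algebra.adjoin k S) (adjoin k S) := by
      infer_instance
    refine ⟨fun y => ?_⟩
    have hy : y ∈ adjoin k S := by rw [hgen]; trivial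
    exact (h1.isAlgebraic ⟨y, hy⟩).algHom (IsScalarTower.toAlgHom (Algebra.adjoin k S) (adjoin k S) L)
  obtain ⟨t, htS, ht⟩ := exists_isTranscendenceBasis_subset (R := k) S
  have hcard : Cardinal.mk t = d := ht.cardinalMk_eq_trdeg.trans hd
  have : Finite t := Cardinal.lt_aleph0_iff_finite.1 (hcard ▸ Cardinal.natCast_lt_aleph0)
  have := Fintype.ofFinite t
  have hd' : Fintype.card t = d := by
    rw [Cardinal.mk_fintype] at hcard
    exact_mod_cast hcard
  set x : t → L := Subtype.val
  set E := adjoin k (Set.range x) with hE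
  set E' := adjoin k (Set.range fun i => x i ^ Q) with hE'
  have hmapE : E.map σ = E' := by
    rw [hE, adjoin_map, ← Set.range_comp, hE']
    congr 1
    exact congrArg Set.range (funext fun i => hσ _ (htS i.2))
  have hmapT : (⊤ : IntermediateField k L).map σ = σ.fieldRange :=
    (AlgHom.fieldRange_eq_map σ).symm
  have hEfin : relfinrank E ⊤ ≠ 0 := by
    rw [relfinrank_top_right]
    obtain ⟨G, hG⟩ := hfg
    have : Algebra.IsAlgebraic E L := ht.isAlgebraic_field
    have htop : adjoin E (G : Set L) = ⊤ := by
      apply restrictScalars_injective k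
      rw [restrictScalars_adjoin, restrictScalars_top, eq_top_iff, ← hG]
      exact adjoin.mono k _ _ Set.subset_union_right
    have := finiteDimensional_adjoin (K := E) (S := (G : Set L))
      fun y _ => (Algebra.IsAlgebraic.isAlgebraic y).isIntegral
    rw [htop] at this
    have : Module.Finite E L := Module.Finite.equiv (topEquiv (F := E) (E := L)).toLinearEquiv
    exact Module.finrank_pos.ne'
  have hEL : relfinrank E' σ.fieldRange = relfinrank E ⊤ := by
    rw [← hmapE, ← hmapT, relfinrank_map_map]
  have hle : E' ≤ σ.fieldRange := by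
    rw [← hmapE, ← hmapT]
    exact map_mono σ le_top
  have hleE : E' ≤ E := adjoin_le_iff.2 (by
    rintro _ ⟨i, rfl⟩
    exact pow_mem (subset_adjoin k _ (Set.mem_range_self i)) Q)
  have h1 := relfinrank_mul_finrank_top hle
  have h2 := relfinrank_mul_finrank_top hleE
  rw [hEL] at h1
  rw [relfinrank_top_right] at hEfin h1
  rw [relfinrank_adjoin_pow ht.1 hQ, hd', ← h1, mul_comm] at h2
  exact (Nat.eq_of_mul_eq_mul_left (Nat.pos_of_ne_zero hEfin) h2).symm

end

end Groth.Agent.WeilLib
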