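import Groth.Agent.VarDim.Scheme
import Mathlib.AlgebraicGeometry.Morphisms.Flat
import Mathlib.AlgebraicGeometry.ResidueField
import Mathlib.FieldTheory.IsAlgClosed.Basic
import Mathlib.FieldTheory.Finite.Basic
import Mathlib.RingTheory.Nakayama
import Mathlib.AlgebraicGeometry.Noetherian

/-!
# Power maps and their lifts to the base change to an algebraically closed field
-/

universe u

open AlgebraicGeometry CategoryTheory Limits

namespace Groth.Agent.WeilLib

noncomputable section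

/-- `F` fixes every point and raises every section to its `Q`-th power. -/
structure IsPowMap {X : Scheme.{u}} (F : X ⟶ X) (Q : ℕ) : Prop where
  base : ∀ x : X, F x = x
  app : ∀ (U : X.Opens) (h : U ≤ F ⁻¹ᵁ U) (s : Γ(X, U)), (F.appLE U U h).hom s = s ^ Q

/-- `G` raises the sections pulled back along `π` to their `Q`-th powers. -/
structure IsPowLift {Y X : Scheme.{u}} (π : Y ⟶ X) (G : Y ⟶ Y) (Q : ℕ) : Prop where
  base : ∀ y : Y, π (G y) = π y
  app : ∀ (U : X.Opens) (h : π ⁻¹ᵁ U ≤ G ⁻¹ᵁ (π ⁻¹ᵁ U)) (s : Γ(X, U)),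
    (G.appLE (π ⁻¹ᵁ U) (π ⁻¹ᵁ U) h).hom ((π.app U).hom s) = (π.app U).hom s ^ Q

variable {X Y : Scheme.{u}}

theorem IsPowMap.le {F : X ⟶ X} {Q : ℕ} (hF : IsPowMap F Q) (U : X.Opens) : U ≤ F ⁻¹ᵁ U :=
  fun x hx => show F x ∈ U by rwa [hF.base x]

theorem isPowMap_id : IsPowMap (𝟙 X) 1 where
  base _ := rfl
  app U h s := by
    rw [pow_one]
    show (X.presheaf.map (homOfLE h).op).hom s = s
    exact congrArg (fun m => m.hom s) (X.presheaf.map_id (Opposite.op U))

theorem IsPowMap.comp {F G : X ⟶ X} {Q R : ℕ} (hF : IsPowMap F Q) (hG : IsPowMap G R) :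
    IsPowMap (F ≫ G) (Q * R) where
  base x := by
    show G (F x) = x
    rw [hG.base, hF.base]
  app U h s := by
    have : F.appLE U U (hF.le U) = F.appLE U U (hF.le U) := rfl
    rw [← Scheme.Hom.appLE_comp_appLE F G U U U (hG.le U) (hF.le U)]
    show (F.appLE U U (hF.le U)).hom ((G.appLE U U (hG.le U)).hom s) = _
    rw [hG.app, map_pow, hF.app, ← pow_mul]

theorem IsPowLift.le {π : Y ⟶ X} {G : Y ⟶ Y} {Q : ℕ} (hG : IsPowLift π G Q) (U : X.Opens) :
    π ⁻¹ᵁ U ≤ G ⁻¹ᵁ (π ⁻¹ᵁ U) :=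
  fun y hy => show π (G y) ∈ U by rw [hG.base y]; exact hy

theorem isPowLift_of_comm {F : X ⟶ X} {Q : ℕ} (hF : IsPowMap F Q) (π : Y ⟶ X) {G : Y ⟶ Y}
    (h : G ≫ π = π ≫ F) : IsPowLift π G Q where
  base y := by
    have := congrArg (fun m : Y ⟶ X => m y) h
    exact this.trans (hF.base (π y))
  app U hU s := by
    have h1 := Scheme.Hom.appLE_comp_appLE G π U (π ⁻¹ᵁ U) (π ⁻¹ᵁ U) le_rfl hU
    have h2 := Scheme.Hom.appLE_comp_appLE π F U U (π ⁻¹ᵁ U) (hF.le U) le_rfl
    have h3 : ∀ {m m' : Y ⟶ X} (_ : m = m') (e e'),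
        m.appLE U (π ⁻¹ᵁ U) e = m'.appLE U (π ⁻¹ᵁ U) e' := by
      intro m m' hm e e'
      subst hm
      rfl
    have h4 := h3 h (fun y hy => show π (G y) ∈ U from hU hy) (fun y hy => (hF.le U) hy)
    rw [← h1, ← h2] at h4
    have h5 := congrArg (fun m => m.hom s) h4
    simp only [CommRingCat.hom_comp, RingHom.comp_apply] at h5
    rw [hF.app, map_pow, ← Scheme.Hom.app_eq_appLE] at h5
    exact h5

/-! ## residue fields at fixed points -/

theorem residueFieldCongr_evaluation {x y : X} (e : x = y) (U : X.Opens) (hx : x ∈ U)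
    (s : Γ(X, U)) :
    (X.residueFieldCongr e).hom (X.evaluation U x hx s) = X.evaluation U y (e ▸ hx) s := by
  subst e
  simp

/-- The endomorphism of the residue field at a fixed point. -/
def fixEnd (G : X ⟶ X) (w : X) (h : G w = w) : X.residueField w →+* X.residueField w :=
  ((X.residueFieldCongr h.symm).hom ≫ G.residueFieldMap w).hom

theorem evaluation_res {U V : X.Opens} (hVU : V ≤ U) (x : X) (hx : x ∈ V) (s : Γ(X, U)) :
    X.evaluation V x hx (X.presheaf.map (homOfLE hVU).op s) = X.evaluation U x (hVU hx) s := by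
  show X.residue x (X.presheaf.germ V x hx (X.presheaf.map (homOfLE hVU).op s)) = _
  rw [X.presheaf.germ_res_apply]
  rfl

theorem residueFieldMap_evaluation (G : Y ⟶ X) {U : X.Opens} {V : Y.Opens} (h : V ≤ G ⁻¹ᵁ U)
    (w : Y) (hw : w ∈ V) (s : Γ(X, U)) :
    G.residueFieldMap w (X.evaluation U (G w) (h hw) s) =
      Y.evaluation V w hw ((G.appLE U V h).hom s) := by
  refine (Scheme.evaluation_naturality_apply G (V := U) w (h hw) s).trans ?_
  show _ = Y.evaluation V w hw (Y.presheaf.map (homOfLE h).op (G.app U s))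
  rw [evaluation_res h w hw]

theorem fixEnd_evaluation (G : X ⟶ X) (w : X) (h : G w = w) (V : X.Opens) (hw : w ∈ V)
    (hV : V ≤ G ⁻¹ᵁ V) (s : Γ(X, V)) :
    fixEnd G w h (X.evaluation V w hw s) = X.evaluation V w hw ((G.appLE V V hV).hom s) := by
  show G.residueFieldMap w ((X.residueFieldCongr h.symm).hom (X.evaluation V w hw s)) = _
  rw [residueFieldCongr_evaluation h.symm, residueFieldMap_evaluation G hV w hw]

/-- Every element of a residue field is a value of a section on some open. -/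
theorem exists_evaluation (x : X) (a : X.residueField x) :
    ∃ (U : X.Opens) (hx : x ∈ U) (s : Γ(X, U)), X.evaluation U x hx s = a := by
  obtain ⟨b, rfl⟩ := X.residue_surjective x a
  obtain ⟨U, hx, s, rfl⟩ := X.presheaf.exists_germ_eq b
  exact ⟨U, hx, s, rfl⟩

theorem fixEnd_of_isPowMap {F : X ⟶ X} {Q : ℕ} (hF : IsPowMap F Q) (x : X)
    (a : X.residueField x) : fixEnd F x (hF.base x) a = a ^ Q := by
  obtain ⟨U, hx, s, rfl⟩ := exists_evaluation x a
  rw [fixEnd_evaluation F x _ U hx (hF.le U), hF.app, map_pow]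

/-- At an affine neighbourhood, residues are fractions of values. -/
theorem exists_fraction {V : X.Opens} (hV : IsAffineOpen V) (w : X) (hw : w ∈ V)
    (a : X.residueField w) :
    ∃ s t : Γ(X, V), X.evaluation V w hw t ≠ 0 ∧
      a * X.evaluation V w hw t = X.evaluation V w hw s := by
  obtain ⟨b, rfl⟩ := X.residue_surjective w a
  letI : Algebra Γ(X, V) (X.presheaf.stalk w) :=
    TopCat.Presheaf.algebra_section_stalk X.presheaf (⟨w, hw⟩ : V)
  have := hV.isLocalization_stalk ⟨w, hw⟩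
  obtain ⟨⟨s, t⟩, hst⟩ := IsLocalization.surj (hV.primeIdealOf ⟨w, hw⟩).asIdeal.primeCompl b
  refine ⟨s, t, ?_, ?_⟩
  · have hu : IsUnit (algebraMap Γ(X, V) (X.presheaf.stalk w) (t : Γ(X, V))) :=
      IsLocalization.map_units _ t
    exact ((hu.map (X.residue w).hom).ne_zero)
  · exact ((map_mul (X.residue w).hom _ _).symm.trans (congrArg (X.residue w).hom hst))

/-! ## base change to `k` -/

section BaseChange

variable {k₀ : Type u} [Field k₀] {k : Type u} [Field k] [Algebra k₀ k]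
variable {f : X ⟶ Spec (CommRingCat.of k₀)} {π : Y ⟶ X} {g : Y ⟶ Spec (CommRingCat.of k)}

/-- The constants. -/
def kConst (g : Y ⟶ Spec (CommRingCat.of k)) (V : Y.Opens) : k →+* Γ(Y, V) :=
  ((Scheme.ΓSpecIso (CommRingCat.of k)).inv ≫ g.appLE ⊤ V le_top).hom

theorem appLE_kConst {G : Y ⟶ Y} (hG : G ≫ g = g) {V : Y.Opens} (h : V ≤ G ⁻¹ᵁ V) (c : k) :
    (G.appLE V V h).hom (kConst g V c) = kConst g V c := by
  have h1 := Scheme.Hom.appLE_comp_appLE G g ⊤ V V le_top h
  have h2 : ∀ {m : Y ⟶ Spec (CommRingCat.of k)} (_ : m = g) (e), m.appLE ⊤ V e = g.appLE ⊤ V le_top := by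
    intro m hm e
    subst hm
    rfl
  rw [h2 hG] at h1
  exact congrArg (fun m => m.hom ((Scheme.ΓSpecIso (CommRingCat.of k)).inv c)) h1

theorem evaluation_kConst (V : Y.Opens) (w : Y) (hw : w ∈ V) (c : k) :
    Y.evaluation V w hw (kConst g V c) = VarDim.resHom g w c := by
  show Y.evaluation V w hw (Y.presheaf.map (homOfLE (le_top (a := V))).op (VarDim.baseMap g c)) = _
  rw [evaluation_res le_top w hw]
  rfl

theorem isAffineOpen_preimage
    (hpb : IsPullback π g f (Spec.map (CommRingCat.ofHom (algebraMap k₀ k))))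
    {U : X.Opens} (hU : IsAffineOpen U) : IsAffineOpen (π ⁻¹ᵁ U) := by
  have : IsAffineHom π := MorphismProperty.of_isPullback hpb.flip inferInstance
  exact hU.preimage π

/-- **Generation.** Over an affine open the sections of the base change are generated by sections
of the original scheme and constants. -/
theorem sections_induction
    (hpb : IsPullback π g f (Spec.map (CommRingCat.ofHom (algebraMap k₀ k))))
    {U : X.Opens} (hU : IsAffineOpen U) {C : Γ(Y, π ⁻¹ᵁ U) → Prop}
    (hpull : ∀ s : Γ(X, U), C ((π.app U).hom s)) (hconst : ∀ c : k, C (kConst g (π ⁻¹ᵁ U) c))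
    (add : ∀ a b, C a → C b → C (a + b)) (mul : ∀ a b, C a → C b → C (a * b))
    (a : Γ(Y, π ⁻¹ᵁ U)) : C a := by
  have hT : IsAffineOpen (⊤ : (Spec (CommRingCat.of k)).Opens) := isAffineOpen_top _
  have hS : IsAffineOpen (⊤ : (Spec (CommRingCat.of k₀)).Opens) := isAffineOpen_top _
  have hUY : π ⁻¹ᵁ U = π ⁻¹ᵁ U ⊓ g ⁻¹ᵁ (⊤ : (Spec (CommRingCat.of k)).Opens) := by simp
  have hiso := isIso_pushoutSection_of_isAffineOpen hpb (US := ⊤) (UT := ⊤) (UX := U) le_top le_top
    hUY hS hT hU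
  have hpo := (isIso_pushoutSection_iff hpb le_top le_top hUY).1 hiso
  let S : Subring Γ(Y, π ⁻¹ᵁ U) :=
    Subring.closure (Set.range (π.app U).hom ∪ Set.range (kConst g (π ⁻¹ᵁ U)))
  have hmem : ∀ a, a ∈ S := by
    have hl : ∀ s, (π.appLE U (π ⁻¹ᵁ U) (le_refl _)).hom s ∈ S := fun s => by
      rw [← Scheme.Hom.app_eq_appLE]
      exact Subring.subset_closure (Or.inl ⟨s, rfl⟩)
    have hr : ∀ c, kConst g (π ⁻¹ᵁ U) c ∈ S := fun c => Subring.subset_closure (Or.inr ⟨c, rfl⟩)
    let l : Γ(X, U) ⟶ CommRingCat.of S :=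
      CommRingCat.ofHom ((π.appLE U (π ⁻¹ᵁ U) (le_refl _)).hom.codRestrict S hl)
    let r : Γ(Spec (CommRingCat.of k), ⊤) ⟶ CommRingCat.of S :=
      (Scheme.ΓSpecIso (CommRingCat.of k)).hom ≫
        CommRingCat.ofHom ((kConst g (π ⁻¹ᵁ U)).codRestrict S hr)
    have hl' : l ≫ CommRingCat.ofHom S.subtype = π.appLE U (π ⁻¹ᵁ U) (le_refl _) := by
      ext s
      rfl
    have hr' : r ≫ CommRingCat.ofHom S.subtype = g.appLE ⊤ (π ⁻¹ᵁ U) le_top := by
      have h1 : CommRingCat.ofHom ((kConst g (π ⁻¹ᵁ U)).codRestrict S hr) ≫ CommRingCat.ofHom S.subtype =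
          (Scheme.ΓSpecIso (CommRingCat.of k)).inv ≫ g.appLE ⊤ (π ⁻¹ᵁ U) le_top := by
        ext c
        rfl
      rw [Category.assoc, h1, Iso.hom_inv_id_assoc]
    have : Mono (CommRingCat.ofHom S.subtype) :=
      ConcreteCategory.mono_of_injective _ Subtype.val_injective
    have hlr : f.appLE ⊤ U le_top ≫ l =
        (Spec.map (CommRingCat.ofHom (algebraMap k₀ k))).appLE ⊤ ⊤ le_top ≫ r := by
      rw [← cancel_mono (CommRingCat.ofHom S.subtype), Category.assoc, Category.assoc, hl', hr']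
      exact hpo.w
    have hcomp : hpo.desc l r hlr ≫ CommRingCat.ofHom S.subtype = 𝟙 _ := by
      apply hpo.hom_ext
      · rw [← Category.assoc, IsPushout.inl_desc, Category.comp_id, hl']
      · rw [← Category.assoc, IsPushout.inr_desc, Category.comp_id, hr']
    intro a
    have := congrArg (fun m => m.hom a) hcomp
    simp only [CommRingCat.hom_comp, RingHom.comp_apply, CommRingCat.hom_id, RingHom.id_apply] at this
    rw [← this]
    exact ((hpo.desc l r hlr).hom a).2
  have ha := hmem a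
  induction ha using Subring.closure_induction with
  | mem x hx =>
    rcases hx with ⟨s, rfl⟩ | ⟨c, rfl⟩
    · exact hpull s
    · exact hconst c
  | zero => simpa using hconst 0
  | one => simpa using hconst 1
  | add x y _ _ hx hy => exact add x y hx hy
  | neg x _ hx =>
    have := mul _ x (hconst (-1)) hx
    simpa using this
  | mul x y _ _ hx hy => exact mul x y hx hy

variable [IsAlgClosed k]

/-- A point fixed by a power lift with trivial action on its residue field is rational. -/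
theorem surjective_resHom_of_fixed
    (hpb : IsPullback π g f (Spec.map (CommRingCat.ofHom (algebraMap k₀ k))))
    {G : Y ⟶ Y} {Q : ℕ} (hQ : 1 < Q) (hG : IsPowLift π G Q) (w : Y) (hw : G w = w)
    (htriv : ∀ a, fixEnd G w hw a = a) : Function.Surjective (VarDim.resHom g w) := by
  classical
  obtain ⟨U, hU, hxU, -⟩ := exists_isAffineOpen_mem_and_subset (x := π w) (U := ⊤) trivial
  have hwV : w ∈ π ⁻¹ᵁ U := hxU
  have hval : ∀ a : Γ(Y, π ⁻¹ᵁ U), ∃ c : k, VarDim.resHom g w c = Y.evaluation _ w hwV a := by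
    refine sections_induction hpb hU (fun s => ?_) (fun c => ⟨c, (evaluation_kConst _ w hwV c).symm⟩)
      (fun a b ⟨c, hc⟩ ⟨c', hc'⟩ => ⟨c + c', by rw [map_add, map_add, hc, hc']⟩)
      fun a b ⟨c, hc⟩ ⟨c', hc'⟩ => ⟨c * c', by rw [map_mul, map_mul, hc, hc']⟩
    set b := Y.evaluation _ w hwV ((π.app U).hom s)
    have hb : b ^ Q = b := by
      have h1 := htriv b
      rwa [fixEnd_evaluation G w hw _ hwV (hG.le U), hG.app, map_pow] at h1
    let P : Polynomial k := Polynomial.X ^ Q - Polynomial.X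
    have hP : P ≠ 0 := (FiniteField.X_pow_card_sub_X_ne_zero k hQ)
    have hsplit : P.Splits := IsAlgClosed.splits P
    have hroot : Polynomial.eval₂ (VarDim.resHom g w) b P = 0 := by
      simp [P, hb]
    rw [hsplit.eq_prod_roots] at hroot
    simp only [Polynomial.eval₂_mul, Polynomial.eval₂_C, Polynomial.eval₂_multiset_prod,
      mul_eq_zero, Multiset.prod_eq_zero_iff, Multiset.map_map, Multiset.mem_map,
      Function.comp_apply, Polynomial.eval₂_sub, Polynomial.eval₂_X, sub_eq_zero] at hroot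
    rcases hroot with h | ⟨c, -, hc⟩
    · exact absurd ((map_eq_zero _).1 h) (Polynomial.leadingCoeff_ne_zero.2 hP)
    · exact ⟨c, hc.symm⟩
  intro a
  obtain ⟨s, t, ht, hst⟩ := exists_fraction (isAffineOpen_preimage hpb hU) w hwV a
  obtain ⟨c, hc⟩ := hval s
  obtain ⟨c', hc'⟩ := hval t
  exact ⟨c * c'⁻¹, by rw [map_mul, map_inv₀, hc, hc', ← hst, mul_inv_cancel_right₀ ht]⟩

/-- **Multiplicity one.** An ideal containing all `G^* a - a` contains the maximal ideal of a
rational fixed point. -/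
theorem maximalIdeal_le_of_fixed [IsLocallyNoetherian Y]
    (hpb : IsPullback π g f (Spec.map (CommRingCat.ofHom (algebraMap k₀ k))))
    {G : Y ⟶ Y} {Q : ℕ} (hQ0 : (Q : k) = 0) (hG : IsPowLift π G Q) (hGg : G ≫ g = g) (w : Y)
    (hw : G w = w) (htriv : ∀ a, fixEnd G w hw a = a)
    (hres : Function.Surjective (VarDim.resHom g w)) (I : Ideal (Y.presheaf.stalk w))
    (hI : ∀ (V : Y.Opens) (hwV : w ∈ V) (hV : V ≤ G ⁻¹ᵁ V) (a : Γ(Y, V)),
      Y.presheaf.germ V w hwV ((G.appLE V V hV).hom a) - Y.presheaf.germ V w hwV a ∈ I) :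
    IsLocalRing.maximalIdeal (Y.presheaf.stalk w) ≤ I := by
  rcases eq_or_ne I ⊤ with hI' | hI'
  · rw [hI']; exact le_top
  obtain ⟨U, hU, hxU, -⟩ := exists_isAffineOpen_mem_and_subset (x := π w) (U := ⊤) trivial
  have hwV : w ∈ π ⁻¹ᵁ U := hxU
  set m := IsLocalRing.maximalIdeal (Y.presheaf.stalk w)
  let φ : Γ(Y, π ⁻¹ᵁ U) →+* (Y.presheaf.stalk w) := (Y.presheaf.germ _ w hwV).hom
  let ev : Γ(Y, π ⁻¹ᵁ U) →+* Y.residueField w := (Y.evaluation _ w hwV).hom
  have hev : ∀ a, (Y.residue w).hom (φ a) = ev a := fun a => rfl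
  have hm : ∀ r : (Y.presheaf.stalk w), r ∈ m ↔ (Y.residue w).hom r = 0 := fun r =>
    (IsLocalRing.residue_eq_zero_iff r).symm
  set J : Ideal (Y.presheaf.stalk w) := I ⊔ m * m
  let ι : k →+* (Y.presheaf.stalk w) := φ.comp (kConst g _)
  have hι : ∀ c, (Y.residue w).hom (ι c) = VarDim.resHom g w c := fun c =>
    evaluation_kConst _ w hwV c
  have hQR : (Q : (Y.presheaf.stalk w)) = 0 := by rw [← map_natCast ι, hQ0, map_zero]
  have key : ∀ a, ∃ c : k, φ a - ι c ∈ J := by
    refine sections_induction hpb hU (fun s => ?_) (fun c => ⟨c, by simp [ι]⟩)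
      (fun a b ⟨c, hc⟩ ⟨c', hc'⟩ => ⟨c + c', by
        have := add_mem hc hc'
        rwa [sub_add_sub_comm, ← map_add, ← map_add] at this⟩)
      fun a b ⟨c, hc⟩ ⟨c', hc'⟩ => ⟨c * c', by
        have := add_mem (J.mul_mem_left (φ a) hc') (J.mul_mem_right (ι c') hc)
        rwa [mul_sub, sub_mul, sub_add_sub_cancel, ← map_mul, ← map_mul] at this⟩
    set a := (π.app U).hom s
    obtain ⟨c, hc⟩ := hres (ev a)
    refine ⟨c, ?_⟩
    have hG1 := hI _ hwV (hG.le U) a
    rw [hG.app, map_pow] at hG1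
    have hevQ : ev a ^ Q = ev a := by
      have h1 := htriv (Y.evaluation _ w hwV a)
      rwa [fixEnd_evaluation G w hw _ hwV (hG.le U), hG.app, map_pow] at h1
    have hcQ : c ^ Q = c := (VarDim.resHom g w).injective (by rw [map_pow, hc, hevQ])
    have hd : φ a - ι c ∈ m := (hm _).2 (by rw [map_sub, hev, hι, hc, sub_self])
    have hsum : (∑ i ∈ Finset.range Q, φ a ^ i * ι c ^ (Q - 1 - i)) ∈ m := by
      rw [hm, map_sum]
      simp only [map_mul, map_pow, hev, hι, hc]
      rw [Finset.sum_congr rfl (g := fun _ => ev a ^ (Q - 1)) fun i hi => by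
        rw [← pow_add]
        congr 1
        have := Finset.mem_range.1 hi
        omega]
      have h0 : (Q : Y.residueField w) = 0 := by rw [← map_natCast (Y.residue w).hom, hQR, map_zero]
      rw [Finset.sum_const, Finset.card_range, nsmul_eq_mul, h0, zero_mul]
    have hpow : φ a ^ Q - ι c ^ Q ∈ J := by
      rw [← geom_sum₂_mul]
      exact Submodule.mem_sup_right (Ideal.mul_mem_mul hsum hd)
    rw [show φ a - ι c = (φ a ^ Q - ι c ^ Q) - (φ a ^ Q - φ a) by
      rw [← map_pow ι, hcQ]; ring]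
    exact sub_mem hpow (Submodule.mem_sup_left hG1)
  have hle : m ≤ J := by
    intro r hr
    letI : Algebra Γ(Y, π ⁻¹ᵁ U) (Y.presheaf.stalk w) :=
      TopCat.Presheaf.algebra_section_stalk Y.presheaf (⟨w, hwV⟩ : (π ⁻¹ᵁ U : Y.Opens))
    have := (isAffineOpen_preimage hpb hU).isLocalization_stalk ⟨w, hwV⟩
    obtain ⟨⟨s, t⟩, hst⟩ := IsLocalization.surj
      ((isAffineOpen_preimage hpb hU).primeIdealOf ⟨w, hwV⟩).asIdeal.primeCompl r
    have hu : IsUnit (φ (t : Γ(Y, π ⁻¹ᵁ U))) := IsLocalization.map_units (Y.presheaf.stalk w) t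
    have hst' : r * φ (t : Γ(Y, π ⁻¹ᵁ U)) = φ s := hst
    obtain ⟨c, hc⟩ := key s
    have hc0 : c = 0 := by
      by_contra hne
      have hJm : J ≤ m := sup_le (IsLocalRing.le_maximalIdeal hI') Ideal.mul_le_right
      have h1 : φ s - (φ s - ι c) ∈ m := sub_mem (hst' ▸ Ideal.mul_mem_right _ _ hr) (hJm hc)
      rw [sub_sub_cancel] at h1
      exact h1 ((isUnit_iff_ne_zero.2 hne).map ι)
    rw [hc0, map_zero, sub_zero] at hc
    obtain ⟨v, hv⟩ := hu
    have : r = φ s * ↑v⁻¹ := by rw [← hst', ← hv, Units.mul_inv_cancel_right]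
    rw [this]
    exact J.mul_mem_right _ hc
  have hfg : m.FG := IsNoetherian.noetherian m
  exact Submodule.le_of_le_smul_of_le_jacobson_bot hfg
    (IsLocalRing.maximalIdeal_le_jacobson ⊥) hle

end BaseChange

end

end Groth.Agent.WeilLib
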