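import Groth.Agent.WeilLib.Geometry
import Groth.Agent.WeilLib.PowMap
import Groth.Agent.WeilLib.PowDegree
import Mathlib.FieldTheory.AlgebraicClosure

/-!
# The degree of a lift of a power map is `Q ^ dim`
-/

universe u v

open AlgebraicGeometry CategoryTheory

namespace Groth.Agent.WeilLib

open WeilCoh

noncomputable section

theorem finrank_toAlgebra_eq_fieldRange {A B : Type u} [Field A] [Field B] (ψ : A →+* B) :
    @Module.finrank A B _ _ ψ.toAlgebra.toModule = Module.finrank ψ.fieldRange B := by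
  letI := ψ.toAlgebra
  exact Algebra.finrank_eq_of_equiv_equiv
    (RingEquiv.ofBijective ψ.rangeRestrictField
      ⟨ψ.rangeRestrictField.injective, fun y => by
        obtain ⟨y, a, rfl⟩ := y
        exact ⟨a, rfl⟩⟩)
    (RingEquiv.refl B) (RingHom.ext fun _ => rfl)

variable {k₀ : Type u} [Field k₀] {k : Type u} [Field k] [IsAlgClosed k] [Algebra k₀ k]
variable {X : Scheme.{u}} {f : X ⟶ Spec (CommRingCat.of k₀)}
variable {Xb : Var k} {π : Xb.obj.left ⟶ X}

/-- Values of pulled back sections and constants generate the residue field. -/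
theorem residue_induction
    (hπ : CategoryTheory.IsPullback π Xb.obj.hom f (Spec.map (CommRingCat.ofHom (algebraMap k₀ k))))
    {U : X.Opens} (hU : IsAffineOpen U) (w : ↥Xb.obj.left) (hw : w ∈ π ⁻¹ᵁ U)
    {C : Xb.obj.left.residueField w → Prop}
    (hpull : ∀ s, C (Xb.obj.left.evaluation _ w hw ((π.app U).hom s)))
    (hconst : ∀ c : k, C (VarDim.resHom Xb.obj.hom w c))
    (add : ∀ a b, C a → C b → C (a + b)) (mul : ∀ a b, C a → C b → C (a * b))
    (inv : ∀ a, C a → C a⁻¹) (a : Xb.obj.left.residueField w) : C a := by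
  have hval : ∀ s, C (Xb.obj.left.evaluation _ w hw s) :=
    sections_induction hπ hU hpull (fun c => by rw [evaluation_kConst]; exact hconst c)
      (fun a b ha hb => by rw [map_add]; exact add _ _ ha hb)
      (fun a b ha hb => by rw [map_mul]; exact mul _ _ ha hb)
  obtain ⟨s, t, ht, hst⟩ := exists_fraction (isAffineOpen_preimage hπ hU) w hw a
  rw [show a = Xb.obj.left.evaluation _ w hw s * (Xb.obj.left.evaluation _ w hw t)⁻¹ by
    rw [← hst, mul_inv_cancel_right₀ ht]]
  exact mul _ _ (hval s) (inv _ (hval t))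

theorem residueFieldMap_resHom (F : Xb ⟶ Xb) (w : ↥Xb.obj.left) (c : k) :
    (sm F).residueFieldMap w (VarDim.resHom Xb.obj.hom (sm F w) c) =
      VarDim.resHom Xb.obj.hom w c := by
  have h1 : VarDim.resHom Xb.obj.hom w c = VarDim.resHom (sm F ≫ Xb.obj.hom) w c := by
    rw [over_w]
  rw [h1]
  show (sm F).residueFieldMap w (Xb.obj.left.Γevaluation (sm F w) (VarDim.baseMap Xb.obj.hom c)) =
    Xb.obj.left.Γevaluation w (VarDim.baseMap (sm F ≫ Xb.obj.hom) c)
  rw [Scheme.Γevaluation_naturality_apply]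
  rfl

variable {Q : ℕ} {F : Xb ⟶ Xb}

theorem map_gen_of_isPowLift
    (hπ : CategoryTheory.IsPullback π Xb.obj.hom f (Spec.map (CommRingCat.ofHom (algebraMap k₀ k))))
    (hQ : 0 < Q) (hG : IsPowLift π (sm F) Q) : sm F (gen Xb) = gen Xb := by
  obtain ⟨U, hU, hxU, -⟩ := exists_isAffineOpen_mem_and_subset (x := π (gen Xb)) (U := ⊤) trivial
  have hwV : gen Xb ∈ π ⁻¹ᵁ U := hxU
  have halg : VarDim.rdeg (sm F) (gen Xb) = 0 := by
    letI := ((sm F).residueFieldMap (gen Xb)).hom.toAlgebra
    let A := algebraicClosure (Xb.obj.left.residueField (sm F (gen Xb)))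
      (Xb.obj.left.residueField (gen Xb))
    have : ∀ a, a ∈ A := by
      refine residue_induction hπ hU (gen Xb) hwV (fun s => ?_) (fun c => ?_)
        (fun a b ha hb => A.add_mem ha hb) (fun a b ha hb => A.mul_mem ha hb)
        fun a ha => A.inv_mem ha
      · rw [mem_algebraicClosure_iff]
        refine IsAlgebraic.of_pow hQ ?_
        have h := residueFieldMap_evaluation (sm F) (hG.le U) (gen Xb) hwV ((π.app U).hom s)
        rw [hG.app, map_pow] at h
        rw [← h]
        exact isAlgebraic_algebraMap _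
      · rw [mem_algebraicClosure_iff, ← residueFieldMap_resHom F (gen Xb) c]
        exact isAlgebraic_algebraMap _
    have : Algebra.IsAlgebraic (Xb.obj.left.residueField (sm F (gen Xb)))
        (Xb.obj.left.residueField (gen Xb)) := ⟨fun a => mem_algebraicClosure_iff.1 (this a)⟩
    exact trdeg_eq_zero
  have : LocallyOfFiniteType (sm F ≫ Xb.obj.hom) := by rw [over_w]; infer_instance
  have : LocallyOfFiniteType (sm F) := locallyOfFiniteType_of_comp (sm F) Xb.obj.hom
  have hdeg : VarDim.deg Xb.obj.hom (gen Xb) = VarDim.deg Xb.obj.hom (sm F (gen Xb)) := by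
    rw [VarDim.deg_eq_add (sm F) Xb.obj.hom (over_w F) (gen Xb), VarDim.fdeg, halg, map_zero,
      add_zero]
  exact VarDim.eq_of_specializes_of_deg_le Xb.obj.hom (genericPoint_specializes _) hdeg.le |>.symm

theorem residueDegree_gen_of_isPowLift
    (hπ : CategoryTheory.IsPullback π Xb.obj.hom f (Spec.map (CommRingCat.ofHom (algebraMap k₀ k))))
    (hQ : 0 < Q) (hG : IsPowLift π (sm F) Q) :
    (sm F).residueDegree (gen Xb) = Q ^ WeilCoh.dim Xb.obj.left := by
  classical
  have hfix := map_gen_of_isPowLift hπ hQ hG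
  obtain ⟨U, hU, hxU, -⟩ := exists_isAffineOpen_mem_and_subset (x := π (gen Xb)) (U := ⊤) trivial
  have hwV : gen Xb ∈ π ⁻¹ᵁ U := hxU
  letI : Algebra k (Xb.obj.left.residueField (gen Xb)) :=
    (VarDim.resHom Xb.obj.hom (gen Xb)).toAlgebra
  let σ : Xb.obj.left.residueField (gen Xb) →ₐ[k] Xb.obj.left.residueField (gen Xb) :=
    { fixEnd (sm F) (gen Xb) hfix with
      commutes' := fun c => by
        show fixEnd (sm F) (gen Xb) hfix (VarDim.resHom Xb.obj.hom (gen Xb) c) = _
        rw [← evaluation_kConst (g := Xb.obj.hom) (π ⁻¹ᵁ U) (gen Xb) hwV c,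
          fixEnd_evaluation (sm F) _ hfix _ hwV (hG.le U), appLE_kConst (over_w F),
          evaluation_kConst]
        rfl }
  let S : Set (Xb.obj.left.residueField (gen Xb)) :=
    Set.range fun s => Xb.obj.left.evaluation _ (gen Xb) hwV ((π.app U).hom s)
  have hS : IntermediateField.adjoin k S = ⊤ := by
    refine eq_top_iff.2 fun a _ => ?_
    exact residue_induction hπ hU (gen Xb) hwV
      (fun s => IntermediateField.subset_adjoin k S ⟨s, rfl⟩)
      (fun c => (IntermediateField.adjoin k S).algebraMap_mem c)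
      (fun a b ha hb => add_mem ha hb) (fun a b ha hb => MulMemClass.mul_mem ha hb) (fun a ha => inv_mem ha) a
  have hfg : (⊤ : IntermediateField k (Xb.obj.left.residueField (gen Xb))).FG := by
    letI : Algebra k Γ(Xb.obj.left, π ⁻¹ᵁ U) := (kConst Xb.obj.hom _).toAlgebra
    have : Algebra.FiniteType k Γ(Xb.obj.left, π ⁻¹ᵁ U) := by
      have h := (Xb.obj.hom.finiteType_appLE (isAffineOpen_top _) (isAffineOpen_preimage hπ hU)
        (V := π ⁻¹ᵁ U) le_top).comp
          (RingHom.FiniteType.of_surjective _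
            (Scheme.ΓSpecIso (CommRingCat.of k)).symm.commRingCatIsoToRingEquiv.surjective)
      exact RingHom.finiteType_algebraMap.1 h
    obtain ⟨G₀, hG₀⟩ := this.out
    refine ⟨G₀.image fun s => Xb.obj.left.evaluation _ (gen Xb) hwV s, eq_top_iff.2 fun a _ => ?_⟩
    obtain ⟨s, t, ht, hst⟩ := exists_fraction (isAffineOpen_preimage hπ hU) (gen Xb) hwV a
    have hval : ∀ s, Xb.obj.left.evaluation _ (gen Xb) hwV s ∈ IntermediateField.adjoin k
        ((G₀.image fun s => Xb.obj.left.evaluation _ (gen Xb) hwV s : Finset _) :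
          Set (Xb.obj.left.residueField (gen Xb))) := fun s => by
      have hs : s ∈ Algebra.adjoin k (G₀ : Set Γ(Xb.obj.left, π ⁻¹ᵁ U)) := by rw [hG₀]; trivial
      induction hs using Algebra.adjoin_induction with
      | mem x hx => exact IntermediateField.subset_adjoin k _ (Finset.mem_image_of_mem _ hx)
      | algebraMap c =>
        show Xb.obj.left.evaluation _ (gen Xb) hwV (kConst Xb.obj.hom _ c) ∈ _
        rw [evaluation_kConst]
        exact IntermediateField.algebraMap_mem _ c
      | add x y _ _ hx hy => rw [map_add]; exact add_mem hx hy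
      | mul x y _ _ hx hy => rw [map_mul]; exact MulMemClass.mul_mem hx hy
    rw [show a = Xb.obj.left.evaluation _ (gen Xb) hwV s *
      (Xb.obj.left.evaluation _ (gen Xb) hwV t)⁻¹ by rw [← hst, mul_inv_cancel_right₀ ht]]
    exact MulMemClass.mul_mem (hval s) (inv_mem (hval t))
  have hd : Algebra.trdeg k (Xb.obj.left.residueField (gen Xb)) = WeilCoh.dim Xb.obj.left := by
    rw [dim_eq_deg Xb, VarDim.deg_eq_tdeg]
    rfl
  have h := finrank_fieldRange_pow σ hQ hS hfg (fun a ⟨s, hs⟩ => by
    show fixEnd (sm F) (gen Xb) hfix a = _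
    rw [← hs, fixEnd_evaluation (sm F) _ hfix _ hwV (hG.le U), hG.app, map_pow]) hd
  rw [← h]
  show @Module.finrank _ _ _ _ ((sm F).residueFieldMap (gen Xb)).hom.toAlgebra.toModule = _
  rw [finrank_toAlgebra_eq_fieldRange]
  have hrange : ((sm F).residueFieldMap (gen Xb)).hom.fieldRange = σ.toRingHom.fieldRange := by
    ext a
    refine ⟨fun ⟨b, hb⟩ => ⟨(Xb.obj.left.residueFieldCongr hfix).hom b, ?_⟩,
      fun ⟨b, hb⟩ => ⟨(Xb.obj.left.residueFieldCongr hfix.symm).hom b, hb⟩⟩
    rw [← hb]
    show (sm F).residueFieldMap (gen Xb) ((Xb.obj.left.residueFieldCongr hfix.symm).hom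
      ((Xb.obj.left.residueFieldCongr hfix).hom b)) = _
    congr 1
    rw [← CommRingCat.comp_apply, Scheme.residueFieldCongr_trans_hom]
    simp
  rw [hrange]
  rfl

variable {K : Type v} [Field K] [CharZero K] (T : Theory k K)

/-- Poincaré pairing of pull-backs along a lift of a power map. -/
theorem tr_pull_mul_pull
    (hπ : CategoryTheory.IsPullback π Xb.obj.hom f (Spec.map (CommRingCat.ofHom (algebraMap k₀ k))))
    (hQ : 0 < Q) (hG : IsPowLift π (sm F) Q) {i j : ℤ} (h : i + j = 2 * 𝐝 Xb) {a b : T.H Xb}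
    (ha : a ∈ T.gr Xb i) (hb : b ∈ T.gr Xb j) :
    T.tr Xb (T.pull F a * T.pull F b) = (Q : K) ^ WeilCoh.dim Xb.obj.left * T.tr Xb (a * b) := by
  rw [← map_mul, tr_pull_dominant T F (map_gen_of_isPowLift hπ hQ hG) rfl
    (mem_congr T h (mul_mem T ha hb)), residueDegree_gen_of_isPowLift hπ hQ hG, Nat.cast_pow]

end

end Groth.Agent.WeilLib
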