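import Groth.Agent.WeilLib.Basic

/-!
# The formal part of the Lefschetz trace formula

A class `G` on a product `Q = X × Y` *represents the graph* of `j : X ⟶ Q` if it has degree
`2 dim Y` and `tr Q (G * x) = tr X (j^* x)` for `x` of degree `2 dim X`.
-/

universe u v w

open AlgebraicGeometry CategoryTheory TensorProduct

namespace Groth.Agent.WeilLib

open WeilCoh

noncomputable section

variable {k : Type u} [Field k] {P : ObjectProperty (Over (Spec (CommRingCat.of k)))}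
variable {K : Type v} [Field K] (T : TheoryOn.{u, v, w} k P K)
variable {X Y Q : P.FullSubcategory}

/-- Parity only matters for the sign. -/
theorem neg_one_zpow_congr {a b : ℤ} (h : Even (a - b)) : (-1 : K) ^ a = (-1 : K) ^ b := by
  rw [show a = b + (a - b) by ring, zpow_add₀ (neg_ne_zero.2 _root_.one_ne_zero), h.neg_one_zpow, mul_one]

/-- `G` represents the image of `j`. -/
structure IsGraphClass (j : X ⟶ Q) (G : T.H Q) (c : ℤ) : Prop where
  mem : G ∈ T.gr Q c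
  tr_mul : ∀ x ∈ T.gr Q (2 * 𝐝 X), T.tr Q (G * x) = T.tr X (T.pull j x)

theorem pull_section {j : X ⟶ Q} {p : Q ⟶ X} (hjp : j ≫ p = 𝟙 X) (a : T.H X) :
    T.pull j (T.pull p a) = a := by
  rw [← AlgHom.comp_apply, ← T.pull_comp, hjp, T.pull_id]
  rfl

theorem pull_graph {j : X ⟶ Q} {q : Q ⟶ Y} {f : X ⟶ Y} (hjq : j ≫ q = f) (a : T.H Y) :
    T.pull j (T.pull q a) = T.pull f a := by
  rw [← AlgHom.comp_apply, ← T.pull_comp, hjq]

variable {p : Q ⟶ X} {q : Q ⟶ Y}

/-- The action of the class of a graph. -/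
theorem push_graph_mul_pull (hP : IsProd p q) {f : X ⟶ Y} {j : X ⟶ Q} (hjp : j ≫ p = 𝟙 X)
    (hjq : j ≫ q = f) {G : T.H Q} {c : ℤ} (hc : c = 2 * 𝐝 Y) (hG : IsGraphClass T j G c) (i : ℤ)
    (β : T.gr Y i) :
    (T.push p (c + i) ⟨G * T.pull q β, mul_mem T hG.mem (T.pull_mem q i β β.2)⟩ : T.H X) =
      T.pull f β := by
  have hd := dim_prod T hP
  refine push_eq T p _ _ (mem_congr T (by omega) (T.pull_mem f i β β.2)) fun b hb => ?_
  rw [mul_assoc, hG.tr_mul _ (mem_congr T (by omega)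
      (mul_mem T (T.pull_mem q i β β.2) (T.pull_mem p _ b hb))), map_mul (T.pull j),
    pull_graph T hjq, pull_section T hjp]

variable {p q : Q ⟶ X}

/-- The class of a graph in terms of dual bases. -/
theorem graph_expansion (hP : IsProd p q) {φ : X ⟶ X} {j : X ⟶ Q} (hjp : j ≫ p = 𝟙 X)
    (hjq : j ≫ q = φ) {G : T.H Q} {c : ℤ} (hc : c = 2 * 𝐝 X) (hG : IsGraphClass T j G c)
    (ι : ℕ → Type) [∀ r, Fintype (ι r)] [∀ r, DecidableEq (ι r)]
    (e : (r : ℕ) → Module.Basis (ι r) K ↥(T.gr X (r : ℤ)))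
    (f : (r : ℕ) → ι r → ↥(T.gr X (2 * 𝐝 X - r)))
    (hef : ∀ r, r ≤ 2 * WeilCoh.dim X.obj.left → ∀ i l : ι r,
      T.tr X ((f r l : T.H X) * (e r i : T.H X)) = if i = l then 1 else 0) :
    G = ∑ r ∈ Finset.range (2 * WeilCoh.dim X.obj.left + 1), ∑ i : ι r,
        T.pull p (T.pull φ (e r i : T.H X)) * T.pull q (f r i : T.H X) := by
  subst hc
  have hd := dim_prod T hP
  refine eq_of_pairing T (j := 2 * 𝐝 X) (by omega) hG.mem ?_ fun x hx => ?_
  · refine Submodule.sum_mem _ fun r _ => Submodule.sum_mem _ fun i _ => ?_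
    exact mem_congr T (by omega) (prod_mem T p q (T.pull_mem φ _ _ (e r i).2) (f r i).2)
  rw [hG.tr_mul x hx]
  refine prod_ext_deg T hP ((T.tr X) ∘ₗ (T.pull j).toLinearMap)
    ((T.tr Q) ∘ₗ LinearMap.mulLeft K _) (fun s a b ha hb => ?_) hx
  simp only [LinearMap.comp_apply, AlgHom.toLinearMap_apply, LinearMap.mulLeft_apply]
  rw [map_mul (T.pull j), pull_section T hjp, pull_graph T hjq, Finset.sum_mul, map_sum]
  simp only [Finset.sum_mul, map_sum]
  have key : ∀ (r : ℕ) (i : ι r),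
      T.tr Q (T.pull p (T.pull φ (e r i : T.H X)) * T.pull q (f r i : T.H X) *
        (T.pull p a * T.pull q b)) =
      (-1 : K) ^ ((2 * 𝐝 X - r) * s) *
        (T.tr X (T.pull φ (e r i : T.H X) * a) * T.tr X ((f r i : T.H X) * b)) := fun r i => by
    rw [mul_assoc, ← mul_assoc (T.pull q (f r i : T.H X)),
      comm T (T.pull_mem q _ _ (f r i).2) (T.pull_mem p _ a ha), smul_mul_assoc, mul_smul_comm,
      map_smul, smul_eq_mul]
    congr 1
    rw [mul_assoc (T.pull p a), ← map_mul (T.pull q), ← mul_assoc, ← map_mul (T.pull p),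
      tr_prod' T hP]
  simp only [key]
  by_cases hs : s < 0 ∨ 2 * 𝐝 X < s
  · simp [eq_zero_of_deg T ha hs]
  obtain ⟨r₀, hr₀⟩ := Int.eq_ofNat_of_zero_le (show (0 : ℤ) ≤ 2 * 𝐝 X - s by omega)
  have hr₀mem : r₀ ∈ Finset.range (2 * WeilCoh.dim X.obj.left + 1) := Finset.mem_range.2 (by omega)
  rw [Finset.sum_eq_single_of_mem r₀ hr₀mem fun r _ hr => Finset.sum_eq_zero fun i _ => by
    rw [tr_mul_eq_zero T (T.pull_mem φ _ _ (e r i).2) ha (by omega), zero_mul, mul_zero]]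
  have hb' : b ∈ T.gr X (r₀ : ℤ) := mem_congr T (by omega) hb
  have hrepr : ∀ l, (e r₀).repr ⟨b, hb'⟩ l = T.tr X ((f r₀ l : T.H X) * b) := by
    intro l
    have : (LinearMap.id.comp (Finsupp.lapply l ∘ₗ (e r₀).repr.toLinearMap) :
        ↥(T.gr X (r₀ : ℤ)) →ₗ[K] K) =
        T.tr X ∘ₗ LinearMap.mulLeft K (f r₀ l : T.H X) ∘ₗ (T.gr X (r₀ : ℤ)).subtype :=
      (e r₀).ext fun i => by
        simp [hef r₀ (by omega) i l, Finsupp.single_apply]
    exact LinearMap.congr_fun this ⟨b, hb'⟩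
  have hb2 : b = ∑ i, T.tr X ((f r₀ i : T.H X) * b) • (e r₀ i : T.H X) := by
    have := congrArg Subtype.val ((e r₀).sum_repr ⟨b, hb'⟩)
    simp only [AddSubmonoidClass.coe_finsetSum, SetLike.val_smul, hrepr] at this
    exact this.symm
  conv_lhs => rw [hb2]
  rw [map_sum, Finset.mul_sum, map_sum]
  refine Finset.sum_congr rfl fun i _ => ?_
  rw [map_smul, mul_smul_comm, map_smul, smul_eq_mul,
    tr_comm T ha (T.pull_mem φ _ _ (e r₀ i).2),
    neg_one_zpow_congr (a := s * r₀) (b := (2 * 𝐝 X - r₀) * s) ⟨s * (r₀ - 𝐝 X), by ring⟩]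
  ring

/-- **The trace formula**, formal part. -/
theorem tr_graph_mul_diag (hP : IsProd p q) {φ : X ⟶ X} {j d : X ⟶ Q} (hjp : j ≫ p = 𝟙 X)
    (hjq : j ≫ q = φ) (hdp : d ≫ p = 𝟙 X) (hdq : d ≫ q = 𝟙 X) {G Δ : T.H Q} {c c' : ℤ}
    (hc : c = 2 * 𝐝 X) (hc' : c' = 2 * 𝐝 X)
    (hG : IsGraphClass T j G c) (hΔ : IsGraphClass T d Δ c') :
    T.tr Q (G * Δ) = ∑ i ∈ Finset.range (2 * WeilCoh.dim X.obj.left + 1),
        (-1 : K) ^ i * LinearMap.trace K ↥(T.gr X (i : ℤ)) (T.pullDeg φ (i : ℤ)) := by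
  classical
  subst hc hc'
  rw [hG.tr_mul Δ hΔ.mem]
  let ι : ℕ → Type := fun r => Fin (Module.finrank K (T.gr X (2 * 𝐝 X - r)))
  let g : (r : ℕ) → Module.Basis (ι r) K (T.gr X (2 * 𝐝 X - r)) := fun r => Module.finBasis K _
  have hdual : ∀ r : ℕ,
      (pairing K (T.gr X (2 * 𝐝 X - r)) (T.gr X (r : ℤ)) (T.tr X)).IsPerfPair :=
    fun r => T.duality X _ _ (by omega)
  let e : (r : ℕ) → Module.Basis (ι r) K (T.gr X (r : ℤ)) := fun r =>
    haveI := hdual r
    (g r).dualBasis.map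
      (pairing K (T.gr X (2 * 𝐝 X - r)) (T.gr X (r : ℤ)) (T.tr X)).flip.toPerfPair.symm
  have hge : ∀ (r : ℕ) (y : T.gr X (2 * 𝐝 X - r)) (i : ι r),
      T.tr X ((y : T.H X) * (e r i : T.H X)) = (g r).repr y i := fun r y i => by
    have := hdual r
    have h := LinearMap.apply_toPerfPair_flip
      (p := pairing K (T.gr X (2 * 𝐝 X - r)) (T.gr X (r : ℤ)) (T.tr X)) ((g r).dualBasis i) y
    rw [Module.Basis.dualBasis_apply] at h
    exact h
  have hexp := graph_expansion T hP hdp hdq rfl hΔ ι e (fun r i => g r i) fun r _ i l => by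
    rw [hge, Module.Basis.repr_self, Finsupp.single_apply]
    simp [eq_comm]
  rw [hexp, map_sum, map_sum]
  simp only [map_sum, map_mul (T.pull j), pull_section T hjp, pull_graph T hjq, T.pull_id,
    AlgHom.id_apply]
  let F : ℤ → K := fun i => LinearMap.trace K ↥(T.gr X i) (T.pullDeg φ i)
  have hr : ∀ r ∈ Finset.range (2 * WeilCoh.dim X.obj.left + 1),
      ∑ i : ι r, T.tr X ((e r i : T.H X) * T.pull φ (g r i : T.H X)) =
        (-1 : K) ^ (r : ℤ) * F (2 * 𝐝 X - r) := by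
    intro r _
    show _ = _ * LinearMap.trace K _ (T.pullDeg φ (2 * 𝐝 X - r))
    rw [LinearMap.trace_eq_matrix_trace K (g r), Matrix.trace, Finset.mul_sum]
    refine Finset.sum_congr rfl fun i _ => ?_
    rw [Matrix.diag_apply, LinearMap.toMatrix_apply, ← hge,
      tr_comm T (e r i).2 (T.pull_mem φ _ _ (g r i).2),
      neg_one_zpow_congr (a := (r : ℤ) * (2 * 𝐝 X - r)) (b := r)
        ⟨(r : ℤ) * 𝐝 X - (r * r + r) / 2, ?_⟩]
    · rfl
    · have : (2 : ℤ) ∣ (r : ℤ) * r + r := by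
        have h := (Int.even_mul_succ_self (r : ℤ)).two_dvd
        rwa [mul_add, mul_one] at h
      linear_combination Int.mul_ediv_cancel' this
  rw [Finset.sum_congr rfl hr, ← Finset.sum_range_reflect]
  refine Finset.sum_congr rfl fun r hr => ?_
  have hle : r ≤ 2 * WeilCoh.dim X.obj.left := Nat.lt_succ_iff.1 (Finset.mem_range.1 hr)
  rw [show (2 * WeilCoh.dim X.obj.left + 1 - 1 - r : ℕ) = 2 * WeilCoh.dim X.obj.left - r by omega,
    Nat.cast_sub hle]
  push_cast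
  rw [show 2 * 𝐝 X - (2 * 𝐝 X - (r : ℤ)) = r by ring, ← zpow_natCast (-1 : K) r,
    neg_one_zpow_congr (a := 2 * 𝐝 X - (r : ℤ)) (b := r) ⟨𝐝 X - r, by ring⟩]

end

end Groth.Agent.WeilLib
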